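import Mathlib
import Cfsg.Agent.LieClassical.SLGen

/-!
# Groups satisfying the Steinberg relations of type `A`

Let `Γ` be generated by elements `x i j a` (`i ≠ j` in a finite type `ι` with at least three elements, `a` in a
field `F`) satisfying the Steinberg relations, and let `φ : Γ → SL ι F` send `x i j a` to the elementary transvection.
Then the kernel of `φ` is central (`ker_le_center`).  Consequently a simple group generated by
elements satisfying the Steinberg relations is isomorphic to `PSL ι F` (`nonempty_psl`).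
-/

set_option autoImplicit false
set_option linter.unusedSectionVars false
set_option linter.unusedVariables false

namespace Cfsg.Agent.AGraded

open scoped commutatorElement
open Matrix

universe u v w

variable {ι : Type u} [Fintype ι] [DecidableEq ι] {F : Type v} [Field F] {Γ : Type w} [Group Γ]

/-- The Steinberg relations of type `A`. -/
structure SteinRel (x : ι → ι → F → Γ) : Prop where
  add : ∀ i j, i ≠ j → ∀ a b, x i j (a + b) = x i j a * x i j b
  comm : ∀ i j k l, i ≠ j → k ≠ l → j ≠ k → i ≠ l → ∀ a b, x i j a * x k l b = x k l b * x i j a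
  br : ∀ i j k, i ≠ j → j ≠ k → i ≠ k → ∀ a b, ⁅x i j a, x j k b⁆ = x i k (a * b)

namespace SteinRel

variable {x : ι → ι → F → Γ} (h : SteinRel x)

include h

theorem zero {i j : ι} (hij : i ≠ j) : x i j 0 = 1 := by
  have := h.add i j hij 0 0
  rw [add_zero] at this
  simpa using this

theorem neg {i j : ι} (hij : i ≠ j) (a : F) : x i j (-a) = (x i j a)⁻¹ := by
  rw [eq_inv_iff_mul_eq_one, ← h.add i j hij, neg_add_cancel, h.zero hij]

/-- the root group as a homomorphism, trivial on the diagonal -/
def rt (i j : ι) : Multiplicative F →* Γ where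
  toFun a := if i = j then 1 else x i j a.toAdd
  map_one' := by
    by_cases hij : i = j
    · simp [hij]
    · simp [hij, h.zero hij]
  map_mul' a b := by
    by_cases hij : i = j
    · simp [hij]
    · simp [hij, h.add i j hij]

theorem rt_apply {i j : ι} (hij : i ≠ j) (a : F) : h.rt i j (Multiplicative.ofAdd a) = x i j a := by
  simp [rt, hij]

theorem rt_self (i : ι) (a : Multiplicative F) : h.rt i i a = 1 := by
  simp [rt]

theorem commute {i j k l : ι} (hjk : j ≠ k) (hil : i ≠ l) (a b : Multiplicative F) :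
    Commute (h.rt i j a) (h.rt k l b) := by
  by_cases hij : i = j
  · subst hij
    rw [h.rt_self]
    exact Commute.one_left _
  by_cases hkl : k = l
  · subst hkl
    rw [h.rt_self]
    exact Commute.one_right _
  · have h1 := h.rt_apply hij a.toAdd
    have h2 := h.rt_apply hkl b.toAdd
    rw [ofAdd_toAdd] at h1 h2
    rw [h1, h2]
    exact h.comm i j k l hij hkl hjk hil _ _

theorem col_comm (k : ι) : Pairwise fun i j => ∀ (a b : Multiplicative F),
    Commute (h.rt i k a) (h.rt j k b) := fun i j _ a b => by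
  by_cases hk : k = j
  · subst hk
    rw [h.rt_self]
    exact Commute.one_right _
  by_cases hk' : k = i
  · subst hk'
    rw [h.rt_self]
    exact Commute.one_left _
  · exact h.commute hk (fun hh => hk' hh.symm) a b

theorem row_comm (k : ι) : Pairwise fun i j => ∀ (a b : Multiplicative F),
    Commute (h.rt k i a) (h.rt k j b) := fun i j _ a b => by
  by_cases hk : i = k
  · subst hk
    rw [h.rt_self]
    exact Commute.one_left _
  by_cases hk' : k = j
  · subst hk'
    rw [h.rt_self]
    exact Commute.one_right _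
  · exact h.commute hk hk' a b

/-- column group: `∏ j, x j k (v j)` -/
noncomputable def col (k : ι) : (ι → Multiplicative F) →* Γ :=
  MonoidHom.noncommPiCoprod (fun j => h.rt j k) (h.col_comm k)

/-- row group: `∏ j, x k j (v j)` -/
noncomputable def row (k : ι) : (ι → Multiplicative F) →* Γ :=
  MonoidHom.noncommPiCoprod (fun j => h.rt k j) (h.row_comm k)

theorem col_single (k j : ι) (a : Multiplicative F) : h.col k (Pi.mulSingle j a) = h.rt j k a :=
  MonoidHom.noncommPiCoprod_mulSingle ..

theorem row_single (k j : ι) (a : Multiplicative F) : h.row k (Pi.mulSingle j a) = h.rt k j a :=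
  MonoidHom.noncommPiCoprod_mulSingle ..

/-- `∏ j, x j k (w j)` -/
noncomputable def C (k : ι) (w : ι → F) : Γ := h.col k fun j => Multiplicative.ofAdd (w j)

/-- `∏ j, x k j (w j)` -/
noncomputable def D (k : ι) (w : ι → F) : Γ := h.row k fun j => Multiplicative.ofAdd (w j)

omit h in
theorem single_eq (j : ι) (a : F) : (fun j' => Multiplicative.ofAdd ((Pi.single j a : ι → F) j')) =
    (Pi.mulSingle j (Multiplicative.ofAdd a) : ι → Multiplicative F) := by
  funext j'
  by_cases hj : j' = j
  · subst hj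
    simp
  · simp [hj]

theorem C_add (k : ι) (w w' : ι → F) : h.C k (w + w') = h.C k w * h.C k w' := by
  unfold C
  rw [← map_mul]
  rfl

theorem D_add (k : ι) (w w' : ι → F) : h.D k (w + w') = h.D k w * h.D k w' := by
  unfold D
  rw [← map_mul]
  rfl

theorem C_zero (k : ι) : h.C k 0 = 1 := by
  unfold C
  exact map_one _

theorem D_zero (k : ι) : h.D k 0 = 1 := by
  unfold D
  exact map_one _

theorem C_single_self (k : ι) (a : F) : h.C k (Pi.single k a) = 1 := by
  unfold C
  rw [single_eq, h.col_single, h.rt_self]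

theorem C_single {j k : ι} (hjk : j ≠ k) (a : F) : h.C k (Pi.single j a) = x j k a := by
  unfold C
  rw [single_eq, h.col_single, h.rt_apply hjk]

theorem D_single_self (k : ι) (a : F) : h.D k (Pi.single k a) = 1 := by
  unfold D
  rw [single_eq, h.row_single, h.rt_self]

theorem D_single {j k : ι} (hjk : k ≠ j) (a : F) : h.D k (Pi.single j a) = x k j a := by
  unfold D
  rw [single_eq, h.row_single, h.rt_apply hjk]

omit h in
theorem induct (P : (ι → F) → Prop) (h0 : P 0) (hadd : ∀ w w', P w → P w' → P (w + w'))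
    (hs : ∀ j a, P (Pi.single j a)) (w : ι → F) : P w :=
  Pi.single_induction P w h0 hadd hs

/-- `x i j a` commutes with `C k w` when `i ≠ k` and `w j = 0`. -/
theorem commute_C {i j k : ι} (hij : i ≠ j) (hik : i ≠ k) (a : F) (w : ι → F) :
    Commute (x i j a) (h.C k (w - (Pi.single j (w j) : ι → F))) := by
  refine induct (fun w => Commute (x i j a) (h.C k (w - (Pi.single j (w j) : ι → F)))) ?_ ?_ ?_ w
  · simp only [Pi.zero_apply, Pi.single_zero, sub_zero]
    rw [h.C_zero]
    exact Commute.one_right _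
  · intro w w' hw hw'
    have : (w + w' - Pi.single j ((w + w') j) : ι → F) = (w - Pi.single j (w j)) + (w' - Pi.single j (w' j)) := by
      rw [Pi.add_apply, Pi.single_add]
      abel
    rw [this, h.C_add]
    exact hw.mul_right hw'
  · intro l b
    by_cases hl : l = j
    · subst hl
      simp only [Pi.single_eq_same, sub_self]
      rw [h.C_zero]
      exact Commute.one_right _
    · rw [Pi.single_eq_of_ne (Ne.symm hl), Pi.single_zero, sub_zero]
      by_cases hlk : l = k
      · subst hlk
        rw [h.C_single_self]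
        exact Commute.one_right _
      · rw [h.C_single hlk]
        exact h.comm i j l k hij hlk (Ne.symm hl) hik a b

theorem conj_left {i j k : ι} (hij : i ≠ j) (hjk : j ≠ k) (hik : i ≠ k) (a b : F) :
    x i j a * x j k b * (x i j a)⁻¹ = x i k (a * b) * x j k b := by
  have := h.br i j k hij hjk hik a b
  rw [commutatorElement_def] at this
  rw [← this]
  group

theorem conj_right {i j k : ι} (hij : i ≠ j) (hjk : j ≠ k) (hik : i ≠ k) (a b : F) :
    x j k b * x i j a * (x j k b)⁻¹ = x i j a * x i k (-(a * b)) := by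
  have h1 := h.conj_left hij hjk hik (-a) b
  rw [h.neg hij, inv_inv, neg_mul] at h1
  have h2 : x j k b * x i j a = x i j a * (x i k (-(a * b)) * x j k b) := by
    rw [← h1]; group
  rw [h2]
  group

/-- the projection killing the coordinates `k` and `l` -/
def kill (k l : ι) (w : ι → F) : ι → F := fun j => if j = k ∨ j = l then 0 else w j

omit h [Fintype ι] in
theorem kill_add (k l : ι) (w w' : ι → F) : kill k l (w + w') = kill k l w + kill k l w' := by
  funext j
  unfold kill
  by_cases hj : j = k ∨ j = l <;> simp [hj]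

omit h [Fintype ι] in
theorem kill_smul (k l : ι) (c : F) (w : ι → F) : kill k l (c • w) = c • kill k l w := by
  funext j
  unfold kill
  by_cases hj : j = k ∨ j = l <;> simp [hj]

omit h [Fintype ι] in
theorem kill_comm (k l : ι) (w : ι → F) : kill k l w = kill l k w := by
  funext j
  unfold kill
  simp only [or_comm]

omit h [Fintype ι] in
theorem kill_zero (k l : ι) : kill k l (0 : ι → F) = 0 := by
  funext j
  unfold kill
  simp

omit h [Fintype ι] in
theorem kill_single_of {k l j : ι} (hj : j = k ∨ j = l) (a : F) : kill k l (Pi.single j a : ι → F) = 0 := by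
  funext i
  unfold kill
  by_cases hi : i = k ∨ i = l
  · simp [hi]
  · have : i ≠ j := by
      rintro rfl
      exact hi hj
    simp [this]

omit h [Fintype ι] in
theorem kill_single_ne {k l j : ι} (hj : ¬ (j = k ∨ j = l)) (a : F) :
    kill k l (Pi.single j a : ι → F) = Pi.single j a := by
  funext i
  unfold kill
  by_cases hi : i = k ∨ i = l
  · have : i ≠ j := by
      rintro rfl
      exact hj hi
    simp [hi, this]
  · simp [hi]

omit h [Fintype ι] in
theorem kill_decomp {k l : ι} (hkl : k ≠ l) (w : ι → F) : w = kill k l w + Pi.single l (w l) + Pi.single k (w k) := by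
  funext j
  unfold kill
  by_cases hj : j = k
  · subst hj
    simp [hkl]
  · by_cases hj' : j = l
    · subst hj'
      simp [hkl.symm]
    · simp [hj, hj']

theorem C_decomp {k l : ι} (hkl : k ≠ l) (w : ι → F) : h.C k w = h.C k (kill k l w) * x l k (w l) := by
  conv_lhs => rw [kill_decomp hkl w]
  rw [h.C_add, h.C_add, h.C_single_self, mul_one, h.C_single hkl.symm]

theorem C_kill_comm {k l : ι} (hkl : k ≠ l) (w w' : ι → F) :
    Commute (h.C k (kill k l w)) (h.C l (kill k l w')) := by
  refine induct (fun w => Commute (h.C k (kill k l w)) (h.C l (kill k l w'))) ?_ ?_ ?_ w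
  · rw [kill_zero, h.C_zero]
    exact Commute.one_left _
  · intro w₁ w₂ h1 h2
    rw [kill_add, h.C_add]
    exact h1.mul_left h2
  · intro j a
    by_cases hj : j = k ∨ j = l
    · rw [kill_single_of hj, h.C_zero]
      exact Commute.one_left _
    · rw [kill_single_ne hj]
      rw [not_or] at hj
      rw [h.C_single hj.1]
      have h1 : kill k l w' = kill k l w' - Pi.single k ((kill k l w') k) := by
        have : kill k l w' k = 0 := by simp [kill]
        rw [this, Pi.single_zero, sub_zero]
      rw [h1]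
      exact h.commute_C hj.1 hj.2 a _

/-- conjugating a column by `x k l b` -/
theorem conj_C {k l : ι} (hkl : k ≠ l) (b : F) (w : ι → F) :
    x k l b * h.C k (kill k l w) * (x k l b)⁻¹ = h.C k (kill k l w) * h.C l (kill k l ((-b) • w)) := by
  refine induct (fun w => x k l b * h.C k (kill k l w) * (x k l b)⁻¹ =
    h.C k (kill k l w) * h.C l (kill k l ((-b) • w))) ?_ ?_ ?_ w
  · rw [smul_zero, kill_zero, h.C_zero, h.C_zero]
    group
  · intro w₁ w₂ h1 h2
    rw [smul_add, kill_add, kill_add, h.C_add, h.C_add]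
    calc x k l b * (h.C k (kill k l w₁) * h.C k (kill k l w₂)) * (x k l b)⁻¹
        = (x k l b * h.C k (kill k l w₁) * (x k l b)⁻¹) * (x k l b * h.C k (kill k l w₂) * (x k l b)⁻¹) := by group
      _ = h.C k (kill k l w₁) * (h.C l (kill k l (-b • w₁)) * h.C k (kill k l w₂)) * h.C l (kill k l (-b • w₂)) := by
          rw [h1, h2]; group
      _ = h.C k (kill k l w₁) * (h.C k (kill k l w₂) * h.C l (kill k l (-b • w₁))) * h.C l (kill k l (-b • w₂)) := by
          rw [(h.C_kill_comm hkl w₂ (-b • w₁)).eq]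
      _ = _ := by group
  · intro j a
    by_cases hj : j = k ∨ j = l
    · have e : ((-b) • (Pi.single j a : ι → F)) = Pi.single j (-b * a) := by
        rw [← Pi.single_smul, smul_eq_mul]
      rw [e, kill_single_of hj, kill_single_of hj, h.C_zero, h.C_zero]
      group
    · have e : ((-b) • (Pi.single j a : ι → F)) = Pi.single j (-b * a) := by
        rw [← Pi.single_smul, smul_eq_mul]
      rw [e, kill_single_ne hj, kill_single_ne hj]
      rw [not_or] at hj
      rw [h.C_single hj.1, h.C_single hj.2, h.conj_right hj.1 hkl hj.2]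
      congr 2
      ring

end SteinRel

/-- conjugate of a subgroup -/
def cj (g : Γ) (K : Subgroup Γ) : Subgroup Γ := K.map (MulAut.conj g).toMonoidHom

theorem mem_cj {g y : Γ} {K : Subgroup Γ} (hy : y ∈ K) : g * y * g⁻¹ ∈ cj g K :=
  ⟨y, hy, by simp⟩

theorem cj_mul (g g' : Γ) (K : Subgroup Γ) : cj (g * g') K = cj g (cj g' K) := by
  unfold cj
  rw [Subgroup.map_map]
  congr 1
  ext y
  simp [mul_assoc]

theorem cj_one (K : Subgroup Γ) : cj 1 K = K := by
  ext y
  unfold cj
  simp

theorem cj_mono (g : Γ) {K L : Subgroup Γ} (hKL : K ≤ L) : cj g K ≤ cj g L := Subgroup.map_mono hKL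

theorem cj_inv_cancel (g : Γ) (K : Subgroup Γ) : cj g⁻¹ (cj g K) = K := by
  rw [← cj_mul, inv_mul_cancel, cj_one]

theorem cj_cancel_inv (g : Γ) (K : Subgroup Γ) : cj g (cj g⁻¹ K) = K := by
  rw [← cj_mul, mul_inv_cancel, cj_one]

theorem cj_eq_of_le {g : Γ} {K L : Subgroup Γ} (h1 : cj g K ≤ L) (h2 : cj g⁻¹ L ≤ K) : cj g K = L := by
  refine le_antisymm h1 ?_
  have := cj_mono g h2
  rwa [cj_cancel_inv] at this

theorem cj_eq_iff {g : Γ} {K L : Subgroup Γ} : cj g K = L ↔ K = cj g⁻¹ L := by
  constructor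
  · rintro rfl
    rw [cj_inv_cancel]
  · rintro rfl
    rw [cj_cancel_inv]

namespace SteinRel

variable {x : ι → ι → F → Γ} (h : SteinRel x)

include h

/-- the row group as a subgroup -/
noncomputable def R (k : ι) : Subgroup Γ := (h.row k).range

theorem mem_R {k j : ι} (hkj : k ≠ j) (a : F) : x k j a ∈ h.R k :=
  ⟨fun j' => Multiplicative.ofAdd ((Pi.single j a : ι → F) j'), h.D_single hkj a⟩

theorem D_mem_R (k : ι) (w : ι → F) : h.D k w ∈ h.R k := ⟨_, rfl⟩

theorem exists_of_mem_R {k : ι} {y : Γ} (hy : y ∈ h.R k) : ∃ w : ι → F, y = h.D k w := by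
  obtain ⟨w, rfl⟩ := hy
  exact ⟨fun j => (w j).toAdd, rfl⟩

theorem D_mem {k : ι} {K : Subgroup Γ} (hK : ∀ j, k ≠ j → ∀ a, x k j a ∈ K) (w : ι → F) : h.D k w ∈ K := by
  refine induct (fun w => h.D k w ∈ K) ?_ ?_ ?_ w
  · rw [h.D_zero]; exact one_mem _
  · intro w₁ w₂ h1 h2
    rw [h.D_add]; exact mul_mem h1 h2
  · intro j a
    by_cases hj : k = j
    · subst hj
      rw [h.D_single_self]; exact one_mem _
    · rw [h.D_single hj]; exact hK j hj a

theorem R_le {k : ι} {K : Subgroup Γ} (hK : ∀ j, k ≠ j → ∀ a, x k j a ∈ K) : h.R k ≤ K := by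
  intro y hy
  obtain ⟨w, rfl⟩ := h.exists_of_mem_R hy
  exact h.D_mem hK w

theorem cj_R_le {k : ι} {g : Γ} {K : Subgroup Γ} (hK : ∀ j, k ≠ j → ∀ a, g * x k j a * g⁻¹ ∈ K) :
    cj g (h.R k) ≤ K := by
  unfold cj
  rw [Subgroup.map_le_iff_le_comap]
  refine h.R_le fun j hj a => ?_
  simpa using hK j hj a

theorem cj_x_R {j m k : ι} (hjm : j ≠ m) (hmk : m ≠ k) (b : F) : cj (x j m b) (h.R k) = h.R k := by
  have key : ∀ b : F, cj (x j m b) (h.R k) ≤ h.R k := by
    intro b
    refine h.cj_R_le fun l hl a => ?_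
    by_cases hjk : j = k
    · subst hjk
      exact mul_mem (mul_mem (h.mem_R hjm b) (h.mem_R hl a)) (inv_mem (h.mem_R hjm b))
    · by_cases hlj : l = j
      · subst hlj
        rw [h.conj_right hl hjm (Ne.symm hmk)]
        exact mul_mem (h.mem_R hl a) (h.mem_R (Ne.symm hmk) _)
      · rw [h.comm j m k l hjm hl hmk (Ne.symm hlj), mul_inv_cancel_right]
        exact h.mem_R hl a
  refine cj_eq_of_le (key b) ?_
  rw [← h.neg hjm]
  exact key _

theorem cj_C_R {m l : ι} (hml : m ≠ l) (w : ι → F) : cj (h.C m w) (h.R l) = h.R l := by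
  refine induct (fun w => cj (h.C m w) (h.R l) = h.R l) ?_ ?_ ?_ w
  · rw [h.C_zero, cj_one]
  · intro w₁ w₂ h1 h2
    rw [h.C_add, cj_mul, h2, h1]
  · intro j a
    by_cases hj : j = m
    · subst hj
      rw [h.C_single_self, cj_one]
    · rw [h.C_single hj]
      exact h.cj_x_R hj hml a

theorem exists_third (hι : 3 ≤ Fintype.card ι) (i j : ι) : ∃ k : ι, k ≠ i ∧ k ≠ j := by
  by_contra hcon
  push Not at hcon
  have h1 : (Finset.univ : Finset ι) ⊆ {i, j} := by
    intro k _
    by_cases hk : k = i
    · simp [hk]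
    · simp [hcon k hk]
  have h2 := Finset.card_le_card h1
  have h3 := Finset.card_le_two (a := i) (b := j)
  rw [Finset.card_univ] at h2
  omega

theorem rank_one_le (hι : 3 ≤ Fintype.card ι) {k l : ι} (hkl : k ≠ l) {a : F} (ha : a ≠ 0) :
    cj (x k l (-a⁻¹) * x l k a) (h.R k) ≤ h.R l := by
  -- image of `x k j t`, `j ≠ l`
  have h1 : ∀ j, k ≠ j → j ≠ l → ∀ t, (x k l (-a⁻¹) * x l k a) * x k j t * (x k l (-a⁻¹) * x l k a)⁻¹ =
      x l j (a * t) := by
    intro j hkj hjl t
    have e1 := h.conj_left hkl.symm hkj (Ne.symm hjl) a t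
    have e2 := h.conj_left hkl (Ne.symm hjl) hkj (-a⁻¹) (a * t)
    have e3 := h.comm k l k j hkl hkj hkl.symm hkj (-a⁻¹) t
    have e4 := h.comm l j k j (Ne.symm hjl) hkj hkj.symm (Ne.symm hjl) (a * t) t
    have e5 : (-a⁻¹) * (a * t) = -t := by field_simp
    rw [e5] at e2
    calc (x k l (-a⁻¹) * x l k a) * x k j t * (x k l (-a⁻¹) * x l k a)⁻¹
        = x k l (-a⁻¹) * (x l k a * x k j t * (x l k a)⁻¹) * (x k l (-a⁻¹))⁻¹ := by group
      _ = (x k l (-a⁻¹) * x l j (a * t) * (x k l (-a⁻¹))⁻¹) * (x k l (-a⁻¹) * x k j t * (x k l (-a⁻¹))⁻¹) := by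
          rw [e1]; group
      _ = x k j (-t) * x l j (a * t) * x k j t := by
          rw [e2, e3]; group
      _ = x k j (-t) * (x k j t * x l j (a * t)) := by rw [mul_assoc, e4]
      _ = x l j (a * t) := by
          rw [← mul_assoc, ← h.add k j hkj, neg_add_cancel, h.zero hkj, one_mul]
  -- image of `x j l t`
  have h2 : ∀ j, k ≠ j → j ≠ l → ∀ t, (x k l (-a⁻¹) * x l k a) * x j l t * (x k l (-a⁻¹) * x l k a)⁻¹ =
      x j k (-(t * a)) := by
    intro j hkj hjl t
    have e1 := h.conj_right hjl hkl.symm hkj.symm t a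
    have e2 := h.conj_right hkj.symm hkl hjl (-(t * a)) (-a⁻¹)
    have e3 := h.comm k l j l hkl hjl hjl.symm hkl (-a⁻¹) t
    have e4 := h.comm j k j l hkj.symm hjl hkj hjl (-(t * a)) (-t)
    have e5 : -(-(t * a) * -a⁻¹) = -t := by field_simp
    rw [e5] at e2
    calc (x k l (-a⁻¹) * x l k a) * x j l t * (x k l (-a⁻¹) * x l k a)⁻¹
        = x k l (-a⁻¹) * (x l k a * x j l t * (x l k a)⁻¹) * (x k l (-a⁻¹))⁻¹ := by group
      _ = (x k l (-a⁻¹) * x j l t * (x k l (-a⁻¹))⁻¹) * (x k l (-a⁻¹) * x j k (-(t * a)) * (x k l (-a⁻¹))⁻¹) := by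
          rw [e1]; group
      _ = x j l t * (x j k (-(t * a)) * x j l (-t)) := by
          rw [e2, e3]; group
      _ = x j l t * (x j l (-t) * x j k (-(t * a))) := by rw [e4]
      _ = x j k (-(t * a)) := by
          rw [← mul_assoc, ← h.add j l hjl, add_neg_cancel, h.zero hjl, one_mul]
  refine h.cj_R_le fun j hkj t => ?_
  by_cases hjl : j = l
  · subst hjl
    obtain ⟨m, hmk, hmj⟩ := h.exists_third hι k j
    have e : x k j t = ⁅x k m 1, x m j t⁆ := by rw [h.br k m j hmk.symm hmj hkj, one_mul]
    have e' : (x k j (-a⁻¹) * x j k a) * ⁅x k m 1, x m j t⁆ * (x k j (-a⁻¹) * x j k a)⁻¹ =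
        ⁅(x k j (-a⁻¹) * x j k a) * x k m 1 * (x k j (-a⁻¹) * x j k a)⁻¹,
          (x k j (-a⁻¹) * x j k a) * x m j t * (x k j (-a⁻¹) * x j k a)⁻¹⁆ := by
      simp only [commutatorElement_def]
      group
    rw [e, e', h1 m hmk.symm hmj, h2 m hmk.symm hmj, h.br j m k hmj.symm hmk hkj.symm]
    exact h.mem_R hkj.symm _
  · rw [h1 j hkj hjl]
    exact h.mem_R (Ne.symm hjl) _

theorem rank_one (hι : 3 ≤ Fintype.card ι) {k l : ι} (hkl : k ≠ l) {a : F} (ha : a ≠ 0) :
    cj (x l k a) (h.R k) = cj (x k l a⁻¹) (h.R l) := by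
  have h1 : cj (x k l (-a⁻¹) * x l k a) (h.R k) = h.R l := by
    refine cj_eq_of_le (h.rank_one_le hι hkl ha) ?_
    have h2 := h.rank_one_le hι hkl.symm (inv_ne_zero ha)
    rw [inv_inv] at h2
    have e : (x k l (-a⁻¹) * x l k a)⁻¹ = x l k (-a) * x k l a⁻¹ := by
      rw [_root_.mul_inv_rev, ← h.neg hkl, ← h.neg hkl.symm, neg_neg]
    rw [e]
    exact h2
  rw [cj_mul, h.neg hkl] at h1
  rw [cj_eq_iff, inv_inv] at h1
  exact h1

/-- change of chart -/
theorem chart (hι : 3 ≤ Fintype.card ι) {v : ι → F} {k l : ι} (hk : v k ≠ 0) (hl : v l ≠ 0) :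
    cj (h.C k ((v k)⁻¹ • v)) (h.R k) = cj (h.C l ((v l)⁻¹ • v)) (h.R l) := by
  by_cases hkl : k = l
  · subst hkl
    rfl
  have ha : ((v k)⁻¹ • v) l ≠ 0 := by
    simp only [Pi.smul_apply, smul_eq_mul]
    exact mul_ne_zero (inv_ne_zero hk) hl
  have hinv : (((v k)⁻¹ • v) l)⁻¹ = ((v l)⁻¹ • v) k := by
    simp only [Pi.smul_apply, smul_eq_mul]
    field_simp
  have hw : (((v k)⁻¹ • v) l)⁻¹ • ((v k)⁻¹ • v) = (v l)⁻¹ • v := by
    rw [hinv, smul_smul]
    congr 1
    simp only [Pi.smul_apply, smul_eq_mul]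
    field_simp
  set w := (v k)⁻¹ • v with hwdef
  set u := (v l)⁻¹ • v with hudef
  have h1 : cj (h.C k w) (h.R k) = cj (h.C k (kill k l w)) (cj (x k l (w l)⁻¹) (h.R l)) := by
    rw [h.C_decomp hkl, cj_mul, h.rank_one hι hkl ha]
  have h2 : h.C k (kill k l w) * x k l (w l)⁻¹ =
      x k l (w l)⁻¹ * (h.C k (kill k l w) * h.C l (kill k l u)) := by
    have := h.conj_C hkl (-(w l)⁻¹) w
    rw [neg_neg, hw, h.neg hkl, inv_inv] at this
    rw [← this]
    group
  rw [h1, ← cj_mul, h2, cj_mul, (h.C_kill_comm hkl w u).eq, cj_mul, h.cj_C_R hkl, h.C_decomp (Ne.symm hkl) u,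
    ← cj_mul, hinv]
  congr 1
  rw [kill_comm l k]
  have e := h.commute_C (i := k) (j := l) (k := l) hkl hkl (u k) (kill k l u)
  have e' : (kill k l u) - (Pi.single l ((kill k l u) l) : ι → F) = kill k l u := by
    have : kill k l u l = 0 := by simp [kill]
    rw [this, Pi.single_zero, sub_zero]
  rw [e'] at e
  exact e.eq

open Classical in
/-- the point belonging to a nonzero vector -/
noncomputable def Pt (v : ι → F) : Subgroup Γ :=
  if hv : ∃ k, v k ≠ 0 then cj (h.C hv.choose ((v hv.choose)⁻¹ • v)) (h.R hv.choose) else ⊥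

theorem Pt_eq (hι : 3 ≤ Fintype.card ι) {v : ι → F} {k : ι} (hk : v k ≠ 0) :
    h.Pt v = cj (h.C k ((v k)⁻¹ • v)) (h.R k) := by
  have hv : ∃ k, v k ≠ 0 := ⟨k, hk⟩
  unfold Pt
  rw [dif_pos hv]
  exact h.chart hι hv.choose_spec hk

theorem Pt_smul (hι : 3 ≤ Fintype.card ι) {v : ι → F} (hv : v ≠ 0) {l m : ι} (hlm : l ≠ m) (b : F) :
    cj (x l m b) (h.Pt v) = h.Pt (v + (b * v m) • Pi.single l (1 : F)) := by
  by_cases hm : v m = 0
  · rw [hm, mul_zero, zero_smul, add_zero]
    obtain ⟨k, hk⟩ : ∃ k, v k ≠ 0 := by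
      by_contra hcon
      push Not at hcon
      exact hv (funext hcon)
    have hmk : m ≠ k := by
      rintro rfl
      exact hk hm
    rw [h.Pt_eq hι hk]
    have hwm : ((v k)⁻¹ • v) m = 0 := by simp [hm]
    set w := (v k)⁻¹ • v with hw
    by_cases hkl : l = k
    · subst hkl
      have h1 : h.C l w = h.C l (kill l m w) := by
        rw [h.C_decomp hmk.symm, hwm, h.zero hmk, mul_one]
      have h2 : x l m b * h.C l (kill l m w) = h.C l (kill l m w) * h.C m (kill l m ((-b) • w)) * x l m b := by
        rw [← h.conj_C hlm]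
        group
      rw [h1, ← cj_mul, h2, cj_mul, cj_mul, h.cj_x_R hlm hmk, h.cj_C_R hmk]
    · have h1 : Commute (x l m b) (h.C k w) := by
        have := h.commute_C hlm hkl b w
        rwa [hwm, Pi.single_zero, sub_zero] at this
      rw [← cj_mul, h1.eq, cj_mul, h.cj_x_R hlm hmk]
  · have hm' : (v + (b * v m) • (Pi.single l (1 : F) : ι → F)) m ≠ 0 := by
      simp [hlm.symm, hm]
    rw [h.Pt_eq hι hm, h.Pt_eq hι hm', ← cj_mul]
    congr 1
    have e : (v + (b * v m) • (Pi.single l (1 : F) : ι → F)) m = v m := by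
      simp [hlm.symm]
    rw [e, smul_add, h.C_add, (show ((v m)⁻¹ • (b * v m) • (Pi.single l (1 : F) : ι → F)) = Pi.single l b by
      rw [smul_smul, ← Pi.single_smul, smul_eq_mul, mul_one]
      congr 1
      field_simp), h.C_single hlm]
    have e2 := h.commute_C (i := l) (j := m) (k := m) hlm hlm b ((v m)⁻¹ • v)
    have e3 : h.C m ((v m)⁻¹ • v - (Pi.single m (((v m)⁻¹ • v) m) : ι → F)) = h.C m ((v m)⁻¹ • v) := by
      rw [sub_eq_add_neg, h.C_add, ← Pi.single_neg, h.C_single_self, mul_one]
    rw [e3] at e2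
    exact e2.eq

end SteinRel

/-- The set of generators. -/
def gens (x : ι → ι → F → Γ) : Set Γ := {g | ∃ i j, i ≠ j ∧ ∃ a, g = x i j a}

open Matrix.SpecialLinearGroup in
theorem equivariant {x : ι → ι → F → Γ} (h : SteinRel x) (hι : 3 ≤ Fintype.card ι)
    (φ : Γ →* SpecialLinearGroup ι F)
    (hφ : ∀ i j (hij : i ≠ j) a, φ (x i j a) = SpecialLinearGroup.transvection hij a)
    {g : Γ} (hg : g ∈ Subgroup.closure (gens x)) : ∀ {v : ι → F}, v ≠ 0 → cj g (h.Pt v) = h.Pt (φ g • v) := by
  have hne : ∀ (A : SpecialLinearGroup ι F) {v : ι → F}, v ≠ 0 → A • v ≠ 0 := fun A v hv => smul_ne_zero_iff_ne A |>.2 hv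
  induction hg using Subgroup.closure_induction with
  | mem y hy =>
    obtain ⟨i, j, hij, a, rfl⟩ := hy
    intro v hv
    rw [h.Pt_smul hι hv hij, hφ i j hij, Cfsg.Agent.LieClassical.SLGen.transvection_smul]
  | one =>
    intro v _
    rw [cj_one, map_one, one_smul]
  | mul y z _ _ hy hz =>
    intro v hv
    rw [cj_mul, hz hv, hy (hne _ hv), map_mul, mul_smul]
  | inv y _ hy =>
    intro v hv
    rw [cj_eq_iff, inv_inv, map_inv]
    have := hy (hne (φ y)⁻¹ hv)
    rw [smul_inv_smul] at this
    exact this.symm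

open Matrix.SpecialLinearGroup in
theorem D_ext {x : ι → ι → F → Γ} (h : SteinRel x) {k : ι} {w w' : ι → F} (hw : ∀ i, k ≠ i → w i = w' i) :
    h.D k w = h.D k w' := by
  have e : w = w' + Pi.single k (w k - w' k) := by
    funext i
    by_cases hi : k = i
    · subst hi
      simp
    · rw [Pi.add_apply, Pi.single_eq_of_ne (Ne.symm hi), add_zero, hw i hi]
  rw [e, h.D_add, h.D_single_self, mul_one]

open Matrix.SpecialLinearGroup in
theorem map_D {x : ι → ι → F → Γ} (h : SteinRel x) (φ : Γ →* SpecialLinearGroup ι F)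
    (hφ : ∀ i j (hij : i ≠ j) a, φ (x i j a) = SpecialLinearGroup.transvection hij a) (k : ι) (w v : ι → F) :
    φ (h.D k w) • v = v + (∑ j ∈ Finset.univ.erase k, w j * v j) • Pi.single k (1 : F) := by
  revert v
  refine SteinRel.induct (fun w => ∀ v : ι → F,
    φ (h.D k w) • v = v + (∑ j ∈ Finset.univ.erase k, w j * v j) • Pi.single k (1 : F)) ?_ ?_ ?_ w
  · intro v
    rw [h.D_zero, map_one, one_smul]
    simp
  · intro w₁ w₂ h1 h2 v
    rw [h.D_add, map_mul, mul_smul, h2, h1, add_assoc]
    congr 1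
    rw [← add_smul]
    congr 1
    have e : ∀ j ∈ Finset.univ.erase k, w₁ j * (v + (∑ j ∈ Finset.univ.erase k, w₂ j * v j) • (Pi.single k (1 : F) : ι → F)) j
        = w₁ j * v j := by
      intro j hj
      have : j ≠ k := Finset.ne_of_mem_erase hj
      simp [this]
    rw [Finset.sum_congr rfl e, ← Finset.sum_add_distrib]
    refine Finset.sum_congr rfl fun j _ => ?_
    rw [Pi.add_apply]
    ring
  · intro j a v
    by_cases hj : k = j
    · subst hj
      rw [h.D_single_self, map_one, one_smul]
      have e : ∑ i ∈ Finset.univ.erase k, (Pi.single k a : ι → F) i * v i = 0 := by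
        refine Finset.sum_eq_zero fun i hi => ?_
        rw [Pi.single_eq_of_ne (Finset.ne_of_mem_erase hi), zero_mul]
      rw [e, zero_smul, add_zero]
    · rw [h.D_single hj, hφ k j hj, Cfsg.Agent.LieClassical.SLGen.transvection_smul]
      have e : ∑ i ∈ Finset.univ.erase k, (Pi.single j a : ι → F) i * v i = a * v j := by
        rw [Finset.sum_eq_single j]
        · rw [Pi.single_eq_same]
        · intro i _ hij
          rw [Pi.single_eq_of_ne hij, zero_mul]
        · intro hj'
          exact absurd (Finset.mem_erase.2 ⟨Ne.symm hj, Finset.mem_univ _⟩) hj'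
      rw [e]

theorem ker_le_center {x : ι → ι → F → Γ} (h : SteinRel x) (hι : 3 ≤ Fintype.card ι)
    (hgen : Subgroup.closure (gens x) = ⊤) (φ : Γ →* SpecialLinearGroup ι F)
    (hφ : ∀ i j (hij : i ≠ j) a, φ (x i j a) = SpecialLinearGroup.transvection hij a) :
    φ.ker ≤ Subgroup.center Γ := by
  intro g hg
  rw [MonoidHom.mem_ker] at hg
  have hPt : ∀ k, h.Pt (Pi.single k (1 : F)) = h.R k := by
    intro k
    have hk : (Pi.single k (1 : F) : ι → F) k ≠ 0 := by simp
    rw [h.Pt_eq hι hk, ← Pi.single_smul, h.C_single_self, cj_one]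
  have hR : ∀ k, cj g (h.R k) = h.R k := by
    intro k
    have := equivariant h hι φ hφ (g := g) (by rw [hgen]; exact Subgroup.mem_top _)
      (v := Pi.single k (1 : F)) (by simp)
    rwa [hg, one_smul, hPt] at this
  have hcomm : ∀ k j, k ≠ j → ∀ a, g * x k j a = x k j a * g := by
    intro k j hkj a
    have h1 : g * x k j a * g⁻¹ ∈ h.R k := by
      rw [← hR k]
      exact mem_cj (h.mem_R hkj a)
    obtain ⟨w, hw⟩ := h.exists_of_mem_R h1
    have h2 : φ (h.D k w) = φ (h.D k (Pi.single j a)) := by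
      rw [← hw, h.D_single hkj, map_mul, map_mul, map_inv, hg]
      simp
    have h3 : h.D k w = h.D k (Pi.single j a) := by
      refine D_ext h fun i hi => ?_
      have h4 : ∀ w' : ι → F, (φ (h.D k w') • (Pi.single i (1 : F) : ι → F)) k = w' i := by
        intro w'
        rw [map_D h φ hφ]
        have e : ∑ j ∈ Finset.univ.erase k, w' j * (Pi.single i (1 : F) : ι → F) j = w' i := by
          rw [Finset.sum_eq_single i]
          · rw [Pi.single_eq_same, mul_one]
          · intro j _ hij
            rw [Pi.single_eq_of_ne hij, mul_zero]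
          · intro hj'
            exact absurd (Finset.mem_erase.2 ⟨Ne.symm hi, Finset.mem_univ _⟩) hj'
        rw [e, Pi.add_apply, Pi.single_eq_of_ne hi, zero_add]
        simp
      rw [← h4 w, h2, h4]
    have h5 : g * x k j a * g⁻¹ = x k j a := by rw [hw, h3, h.D_single hkj]
    exact mul_inv_eq_iff_eq_mul.1 h5
  rw [Subgroup.mem_center_iff]
  intro y
  have hy : y ∈ Subgroup.closure (gens x) := by rw [hgen]; exact Subgroup.mem_top _
  have hle : Subgroup.closure (gens x) ≤ Subgroup.centralizer {g} := by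
    rw [Subgroup.closure_le]
    rintro z ⟨i, j, hij, a, rfl⟩
    rw [SetLike.mem_coe, Subgroup.mem_centralizer_singleton_iff]
    exact (hcomm i j hij a).symm
  have := hle hy
  rw [Subgroup.mem_centralizer_singleton_iff] at this
  exact this

/-- A simple group generated by elements satisfying the Steinberg relations of type `A` over a field is `PSL`. -/
theorem nonempty_psl {G : Type w} [Group G] [IsSimpleGroup G] {x : ι → ι → F → G} (h : SteinRel x)
    (hι : 3 ≤ Fintype.card ι) (hgen : Subgroup.closure (gens x) = ⊤) :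
    Nonempty (G ≃* Matrix.ProjectiveSpecialLinearGroup ι F) := by
  classical
  -- the subgroup of `G × SL` generated by the pairs
  let X : ι → ι → F → G × SpecialLinearGroup ι F := fun i j a =>
    (x i j a, if hij : i = j then 1 else SpecialLinearGroup.transvection hij a)
  let Γ : Subgroup (G × SpecialLinearGroup ι F) := Subgroup.closure (gens X)
  have hXΓ : ∀ i j, i ≠ j → ∀ a, X i j a ∈ Γ := fun i j hij a => Subgroup.subset_closure ⟨i, j, hij, a, rfl⟩
  let y : ι → ι → F → Γ := fun i j a => if hij : i = j then 1 else ⟨X i j a, hXΓ i j hij a⟩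
  have hy : ∀ i j (hij : i ≠ j) a, y i j a = ⟨X i j a, hXΓ i j hij a⟩ := fun i j hij a => by
    simp only [y, dif_neg hij]
  have hX : ∀ i j (hij : i ≠ j) a, X i j a = (x i j a, SpecialLinearGroup.transvection hij a) := fun i j hij a => by
    simp only [X, dif_neg hij]
  have hadd : ∀ i j (hij : i ≠ j) (a b : F), SpecialLinearGroup.transvection hij (a + b) =
      (SpecialLinearGroup.transvection hij a : SpecialLinearGroup ι F) * SpecialLinearGroup.transvection hij b := by
    intro i j hij a b
    apply Cfsg.Agent.LieClassical.SLGen.smul_ext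
    intro v
    rw [mul_smul]
    simp only [Cfsg.Agent.LieClassical.SLGen.transvection_smul]
    ext l
    by_cases hl : l = i
    · subst hl
      simp [Ne.symm hij]
      ring
    · simp [hl, Ne.symm hij]
  have hcomm : ∀ i j k l (hij : i ≠ j) (hkl : k ≠ l), j ≠ k → i ≠ l → ∀ a b : F,
      (SpecialLinearGroup.transvection hij a : SpecialLinearGroup ι F) * SpecialLinearGroup.transvection hkl b =
      SpecialLinearGroup.transvection hkl b * SpecialLinearGroup.transvection hij a := by
    intro i j k l hij hkl hjk hil a b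
    apply Cfsg.Agent.LieClassical.SLGen.smul_ext
    intro v
    rw [mul_smul, mul_smul]
    simp only [Cfsg.Agent.LieClassical.SLGen.transvection_smul]
    ext m
    simp [hjk, Ne.symm hil]
    ring
  have hy' : SteinRel y := by
    refine ⟨?_, ?_, ?_⟩
    · intro i j hij a b
      rw [hy i j hij, hy i j hij, hy i j hij]
      apply Subtype.ext
      rw [Subgroup.coe_mul]
      change X i j (a + b) = X i j a * X i j b
      rw [hX i j hij, hX i j hij, hX i j hij, Prod.mk_mul_mk, h.add i j hij, hadd i j hij]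
    · intro i j k l hij hkl hjk hil a b
      rw [hy i j hij, hy k l hkl]
      apply Subtype.ext
      rw [Subgroup.coe_mul, Subgroup.coe_mul]
      change X i j a * X k l b = X k l b * X i j a
      rw [hX i j hij, hX k l hkl, Prod.mk_mul_mk, Prod.mk_mul_mk, h.comm i j k l hij hkl hjk hil,
        hcomm i j k l hij hkl hjk hil]
    · intro i j k hij hjk hik a b
      rw [hy i j hij, hy j k hjk, hy i k hik]
      apply Subtype.ext
      change ⁅X i j a, X j k b⁆ = X i k (a * b)
      rw [hX i j hij, hX j k hjk, hX i k hik]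
      apply Prod.ext
      · change ⁅x i j a, x j k b⁆ = x i k (a * b)
        exact h.br i j k hij hjk hik a b
      · change ⁅(SpecialLinearGroup.transvection hij a : SpecialLinearGroup ι F),
          SpecialLinearGroup.transvection hjk b⁆ = SpecialLinearGroup.transvection hik (a * b)
        exact Cfsg.Agent.LieClassical.SLGen.commutator_transvection hik hij hjk a b
  have hygen : Subgroup.closure (gens y) = ⊤ := by
    rw [eq_top_iff]
    rintro ⟨g, hg⟩ -
    have hg' : g ∈ Subgroup.closure (gens X) := hg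
    induction hg' using Subgroup.closure_induction with
    | mem z hz =>
      obtain ⟨i, j, hij, a, rfl⟩ := hz
      exact Subgroup.subset_closure ⟨i, j, hij, a, (hy i j hij a).symm⟩
    | one => exact one_mem _
    | mul z t hz ht h1 h2 => exact mul_mem (h1 hz) (h2 ht)
    | inv z hz h1 => exact inv_mem (h1 hz)
  -- the two projections
  let p : Γ →* G := (MonoidHom.fst G _).comp Γ.subtype
  let φ : Γ →* SpecialLinearGroup ι F := (MonoidHom.snd G _).comp Γ.subtype
  have hφ : ∀ i j (hij : i ≠ j) a, φ (y i j a) = SpecialLinearGroup.transvection hij a := by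
    intro i j hij a
    rw [hy i j hij]
    change (X i j a).2 = _
    rw [hX i j hij]
  have hp : ∀ i j (hij : i ≠ j) a, p (y i j a) = x i j a := by
    intro i j hij a
    rw [hy i j hij]
    change (X i j a).1 = _
    rw [hX i j hij]
  have hpsurj : Function.Surjective p := by
    rw [← MonoidHom.range_eq_top, eq_top_iff, ← hgen, Subgroup.closure_le]
    rintro z ⟨i, j, hij, a, rfl⟩
    exact ⟨y i j a, hp i j hij a⟩
  have hφsurj : Function.Surjective φ := by
    rw [← MonoidHom.range_eq_top, eq_top_iff, ← Cfsg.Agent.LieClassical.SLGen.closure_transvections,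
      Subgroup.closure_le]
    rintro z ⟨i, j, hij, a, rfl⟩
    exact ⟨y i j a, hφ i j hij a⟩
  have hker := ker_le_center hy' hι hygen φ hφ
  -- `Γ` is perfect
  have hperf : commutator Γ = ⊤ := by
    rw [eq_top_iff, ← hygen, Subgroup.closure_le]
    rintro z ⟨i, j, hij, a, rfl⟩
    obtain ⟨k, hki, hkj⟩ := hy'.exists_third hι i j
    rw [← mul_one a, ← hy'.br i k j hki.symm hkj hij]
    exact Subgroup.commutator_mem_commutator (Subgroup.mem_top _) (Subgroup.mem_top _)
  let ψ : Γ →* Matrix.ProjectiveSpecialLinearGroup ι F := (QuotientGroup.mk' _).comp φ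
  have hψsurj : Function.Surjective ψ := (QuotientGroup.mk'_surjective _).comp hφsurj
  have hsimple : IsSimpleGroup (Matrix.ProjectiveSpecialLinearGroup ι F) :=
    Cfsg.Agent.LieClassical.SLGen.psl_isSimpleGroup hι
  -- elements of `ker ψ` are central in `Γ`
  have hψker : ψ.ker ≤ Subgroup.center Γ := by
    intro z hz
    have hz' : φ z ∈ Subgroup.center (SpecialLinearGroup ι F) := by
      rw [MonoidHom.mem_ker] at hz
      exact (QuotientGroup.eq_one_iff _).1 hz
    have h1 : ∀ g : Γ, ⁅z, g⁆ ∈ Subgroup.center Γ := by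
      intro g
      apply hker
      rw [MonoidHom.mem_ker, map_commutatorElement, commutatorElement_eq_one_iff_mul_comm]
      exact (Subgroup.mem_center_iff.1 hz' _).symm
    let c : Γ →* Γ :=
      { toFun := fun g => ⁅z, g⁆
        map_one' := by simp
        map_mul' := fun g g' => by
          have h2 := Subgroup.mem_center_iff.1 (h1 g') g
          calc ⁅z, g * g'⁆ = ⁅z, g⁆ * (g * ⁅z, g'⁆ * g⁻¹) := by simp only [commutatorElement_def]; group
            _ = ⁅z, g⁆ * ⁅z, g'⁆ := by rw [h2, mul_inv_cancel_right] }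
    have hc : commutator Γ ≤ c.ker := by
      rw [commutator_def, Subgroup.commutator_le]
      intro g _ g' _
      rw [MonoidHom.mem_ker, map_commutatorElement, commutatorElement_eq_one_iff_mul_comm]
      exact (Subgroup.mem_center_iff.1 (h1 g) _).symm
    rw [hperf] at hc
    rw [Subgroup.mem_center_iff]
    intro g
    have h3 : c g = 1 := hc (Subgroup.mem_top g)
    exact (commutatorElement_eq_one_iff_mul_comm.1 h3).symm
  -- `ker p ≤ ker ψ`
  have hle : p.ker ≤ ψ.ker := by
    have hnorm : (p.ker.map ψ).Normal := Subgroup.Normal.map inferInstance ψ hψsurj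
    rcases hnorm.eq_bot_or_eq_top with h1 | h1
    · rwa [Subgroup.map_eq_bot_iff] at h1
    · exfalso
      -- `G` would be commutative
      have h2 : ∀ g g' : G, g * g' = g' * g := by
        intro g g'
        obtain ⟨a, rfl⟩ := hpsurj g
        obtain ⟨b, rfl⟩ := hpsurj g'
        have h3 : ψ a ∈ p.ker.map ψ := by rw [h1]; exact Subgroup.mem_top _
        obtain ⟨k, hk, hka⟩ := h3
        have h4 : k⁻¹ * a ∈ ψ.ker := by
          rw [MonoidHom.mem_ker, map_mul, map_inv, hka, inv_mul_cancel]
        have h5 := Subgroup.mem_center_iff.1 (hψker h4) b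
        have h6 : p (k⁻¹ * a) = p a := by
          rw [map_mul, map_inv, MonoidHom.mem_ker.1 hk, inv_one, one_mul]
        have h7 := congrArg p h5
        rw [map_mul p b, map_mul p (k⁻¹ * a), h6] at h7
        exact h7.symm
      have h3 : ∀ i j, i ≠ j → ∀ a, x i j a = 1 := by
        intro i j hij a
        obtain ⟨k, hki, hkj⟩ := hy'.exists_third hι i j
        rw [← mul_one a, ← h.br i k j hki.symm hkj hij, commutatorElement_eq_one_iff_mul_comm]
        exact h2 _ _
      have h4 : (⊤ : Subgroup G) = ⊥ := by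
        rw [← hgen, eq_bot_iff, Subgroup.closure_le]
        rintro z ⟨i, j, hij, a, rfl⟩
        rw [h3 i j hij]
        exact one_mem _
      exact top_ne_bot h4
  let χ : G →* Matrix.ProjectiveSpecialLinearGroup ι F := MonoidHom.liftOfSurjective p hpsurj ⟨ψ, hle⟩
  have hχ : ∀ g, χ (p g) = ψ g := fun g => by
    exact MonoidHom.liftOfRightInverse_comp_apply _ _ (Function.rightInverse_surjInv hpsurj) ⟨ψ, hle⟩ g
  have hχsurj : Function.Surjective χ := fun z => by
    obtain ⟨g, hg⟩ := hψsurj z
    exact ⟨p g, (hχ g).trans hg⟩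
  have hχinj : Function.Injective χ := by
    rw [← MonoidHom.ker_eq_bot_iff]
    rcases (inferInstance : χ.ker.Normal).eq_bot_or_eq_top with h1 | h1
    · exact h1
    · exfalso
      obtain ⟨z, hz⟩ := exists_ne (1 : Matrix.ProjectiveSpecialLinearGroup ι F)
      obtain ⟨g, rfl⟩ := hχsurj z
      have : g ∈ χ.ker := by rw [h1]; exact Subgroup.mem_top _
      exact hz this
  exact ⟨MulEquiv.ofBijective χ ⟨hχinj, hχsurj⟩⟩

end Cfsg.Agent.AGraded
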