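import Mathlib
import Cfsg.Agent.AGraded.Steinberg

/-!
# Finite groups graded by a root system of type `A_n`, `n ≥ 3`

`Graded X`: subgroups `X i j` (`i ≠ j` in `ι`) with the commutator relations of root subgroups of type `A`, and
`⁅a, b⁆ ≠ 1` for `1 ≠ a ∈ X i j`, `1 ≠ b ∈ X j k`, `i, j, k` distinct.  If `ι` has at least four elements and the group is
finite, the `X i j` are coordinatised by a finite field (`exists_field`), and a finite simple group generated by the
`X i j` is `PSL ι F` (`exists_psl`).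
-/

set_option autoImplicit false
set_option linter.unusedSectionVars false
set_option linter.unusedVariables false
set_option linter.style.haveILetI false

namespace Cfsg.Agent.AGraded

open scoped commutatorElement

universe u v w

variable {ι : Type u} {G : Type w} [Group G]

/-- Root subgroups of type `A`. -/
structure Graded (X : ι → ι → Subgroup G) : Prop where
  comm : ∀ i j k l, i ≠ j → k ≠ l → j ≠ k → i ≠ l → ∀ a ∈ X i j, ∀ b ∈ X k l, a * b = b * a
  br_mem : ∀ i j k, i ≠ j → j ≠ k → i ≠ k → ∀ a ∈ X i j, ∀ b ∈ X j k, ⁅a, b⁆ ∈ X i k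
  br_ne : ∀ i j k, i ≠ j → j ≠ k → i ≠ k → ∀ a ∈ X i j, ∀ b ∈ X j k, a ≠ 1 → b ≠ 1 → ⁅a, b⁆ ≠ 1
  ne_bot : ∀ i j, i ≠ j → ∃ a ∈ X i j, a ≠ 1

namespace Graded

variable {X : ι → ι → Subgroup G} (h : Graded X)

include h

theorem br_mul_left {i j k : ι} (hij : i ≠ j) (hjk : j ≠ k) (hik : i ≠ k) {a a' b : G} (ha : a ∈ X i j)
    (ha' : a' ∈ X i j) (hb : b ∈ X j k) : ⁅a * a', b⁆ = ⁅a, b⁆ * ⁅a', b⁆ := by
  have h1 := h.br_mem i j k hij hjk hik a' ha' b hb
  have h2 := h.comm i k i j hik hij hik.symm hij _ h1 a ha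
  have h3 := h.comm i k j k hik hjk hjk.symm hik _ h1 b hb
  have h4 : ⁅a * a', b⁆ = a * ⁅a', b⁆ * a⁻¹ * ⁅a, b⁆ := by
    simp only [commutatorElement_def]; group
  rw [h4, ← h2, mul_inv_cancel_right]
  have h5 : Commute ⁅a', b⁆ a := h2
  have h6 : Commute ⁅a', b⁆ b := h3
  have h7 : Commute ⁅a', b⁆ ⁅a, b⁆ := by
    rw [commutatorElement_def a b]
    exact ((h5.mul_right h6).mul_right h5.inv_right).mul_right h6.inv_right
  exact h7.eq

theorem br_mul_right {i j k : ι} (hij : i ≠ j) (hjk : j ≠ k) (hik : i ≠ k) {a b b' : G} (ha : a ∈ X i j)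
    (hb : b ∈ X j k) (hb' : b' ∈ X j k) : ⁅a, b * b'⁆ = ⁅a, b⁆ * ⁅a, b'⁆ := by
  have h1 := h.br_mem i j k hij hjk hik a ha b' hb'
  have h3 := h.comm i k j k hik hjk hjk.symm hik _ h1 b hb
  have h4 : ⁅a, b * b'⁆ = ⁅a, b⁆ * (b * ⁅a, b'⁆ * b⁻¹) := by
    simp only [commutatorElement_def]; group
  rw [h4, ← h3, mul_inv_cancel_right]

/-- `b ↦ ⁅a, b⁆` -/
def lhom {i j k : ι} (hij : i ≠ j) (hjk : j ≠ k) (hik : i ≠ k) {a : G} (ha : a ∈ X i j) : X j k →* X i k where
  toFun b := ⟨⁅a, (b : G)⁆, h.br_mem i j k hij hjk hik a ha b b.2⟩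
  map_one' := by
    apply Subtype.ext
    simp
  map_mul' b b' := by
    apply Subtype.ext
    exact h.br_mul_right hij hjk hik ha b.2 b'.2

/-- `a ↦ ⁅a, b⁆` -/
def rhom {i j k : ι} (hij : i ≠ j) (hjk : j ≠ k) (hik : i ≠ k) {b : G} (hb : b ∈ X j k) : X i j →* X i k where
  toFun a := ⟨⁅(a : G), b⁆, h.br_mem i j k hij hjk hik a a.2 b hb⟩
  map_one' := by
    apply Subtype.ext
    simp
  map_mul' a a' := by
    apply Subtype.ext
    exact h.br_mul_left hij hjk hik a.2 a'.2 hb

theorem lhom_injective {i j k : ι} (hij : i ≠ j) (hjk : j ≠ k) (hik : i ≠ k) {a : G} (ha : a ∈ X i j) (ha1 : a ≠ 1) :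
    Function.Injective (h.lhom hij hjk hik ha) := by
  rw [injective_iff_map_eq_one]
  intro b hb
  by_contra hb1
  exact h.br_ne i j k hij hjk hik a ha b b.2 ha1 (fun hh => hb1 (Subtype.ext hh)) (congrArg Subtype.val hb)

theorem rhom_injective {i j k : ι} (hij : i ≠ j) (hjk : j ≠ k) (hik : i ≠ k) {b : G} (hb : b ∈ X j k) (hb1 : b ≠ 1) :
    Function.Injective (h.rhom hij hjk hik hb) := by
  rw [injective_iff_map_eq_one]
  intro a ha
  by_contra ha1
  exact h.br_ne i j k hij hjk hik a a.2 b hb (fun hh => ha1 (Subtype.ext hh)) hb1 (congrArg Subtype.val ha)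

theorem br_left_inj {i j k : ι} (hij : i ≠ j) (hjk : j ≠ k) (hik : i ≠ k) {a b b' : G} (ha : a ∈ X i j) (ha1 : a ≠ 1)
    (hb : b ∈ X j k) (hb' : b' ∈ X j k) (heq : ⁅a, b⁆ = ⁅a, b'⁆) : b = b' := by
  have := h.lhom_injective hij hjk hik ha ha1 (a₁ := ⟨b, hb⟩) (a₂ := ⟨b', hb'⟩) (Subtype.ext heq)
  exact congrArg Subtype.val this

theorem br_right_inj {i j k : ι} (hij : i ≠ j) (hjk : j ≠ k) (hik : i ≠ k) {a a' b : G} (ha : a ∈ X i j)
    (ha' : a' ∈ X i j) (hb : b ∈ X j k) (hb1 : b ≠ 1) (heq : ⁅a, b⁆ = ⁅a', b⁆) : a = a' := by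
  have := h.rhom_injective hij hjk hik hb hb1 (a₁ := ⟨a, ha⟩) (a₂ := ⟨a', ha'⟩) (Subtype.ext heq)
  exact congrArg Subtype.val this

/-- associativity from the Hall–Witt identity -/
theorem assoc {i j k l : ι} (hij : i ≠ j) (hik : i ≠ k) (hil : i ≠ l) (hjk : j ≠ k) (hjl : j ≠ l) (hkl : k ≠ l)
    {a b c : G} (ha : a ∈ X i j) (hb : b ∈ X j k) (hc : c ∈ X k l) : ⁅⁅a, b⁆, c⁆ = ⁅a, ⁅b, c⁆⁆ := by
  have hab := h.br_mem i j k hij hjk hik a ha b hb
  have hbc := h.br_mem j k l hjk hkl hjl b hb c hc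
  have e1 := h.comm i j k l hij hkl hjk hil a ha c hc
  have e2 := h.comm i k j l hik hjl hjk.symm hil _ hab _ hbc
  have habc := h.br_mem i k l hik hkl hil _ hab c hc
  have hbca := h.br_mem i j l hij hjl hil a ha _ hbc
  -- `a (b c b⁻¹) a⁻¹` in two ways
  have e3 : a * (b * c * b⁻¹) * a⁻¹ = ⁅a, ⁅b, c⁆⁆ * ⁅b, c⁆ * c := by
    have : b * c * b⁻¹ = ⁅b, c⁆ * c := by simp only [commutatorElement_def]; group
    rw [this]
    have h2 : a * (⁅b, c⁆ * c) * a⁻¹ = (a * ⁅b, c⁆ * a⁻¹) * (a * c * a⁻¹) := by group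
    rw [h2, e1, mul_inv_cancel_right]
    have h3 : a * ⁅b, c⁆ * a⁻¹ = ⁅a, ⁅b, c⁆⁆ * ⁅b, c⁆ := by
      rw [commutatorElement_def a ⁅b, c⁆]; group
    rw [h3]
  have e4 : a * (b * c * b⁻¹) * a⁻¹ = ⁅b, c⁆ * (⁅⁅a, b⁆, c⁆ * c) := by
    have h1 : a * b * a⁻¹ = ⁅a, b⁆ * b := by simp only [commutatorElement_def]; group
    have h2 : a * (b * c * b⁻¹) * a⁻¹ = (a * b * a⁻¹) * (a * c * a⁻¹) * (a * b * a⁻¹)⁻¹ := by group
    rw [h2, e1, mul_inv_cancel_right, h1]
    have h3 : ⁅a, b⁆ * b * c * (⁅a, b⁆ * b)⁻¹ = (⁅a, b⁆ * ⁅b, c⁆) * c * ⁅a, b⁆⁻¹ := by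
      rw [commutatorElement_def b c]; group
    rw [h3, e2, mul_assoc, mul_assoc]
    congr 1
    rw [commutatorElement_def ⁅a, b⁆ c]
    group
  rw [e3] at e4
  have e5 := h.comm i l j l hil hjl hjl.symm hil _ habc _ hbc
  rw [← mul_assoc] at e4
  have e6 := mul_right_cancel e4
  rw [← e5] at e6
  exact (mul_right_cancel e6).symm

variable [Finite G]

theorem card_le_left {i j k : ι} (hij : i ≠ j) (hjk : j ≠ k) (hik : i ≠ k) : Nat.card (X j k) ≤ Nat.card (X i k) := by
  obtain ⟨a, ha, ha1⟩ := h.ne_bot i j hij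
  exact Nat.card_le_card_of_injective _ (h.lhom_injective hij hjk hik ha ha1)

theorem card_le_right {i j k : ι} (hij : i ≠ j) (hjk : j ≠ k) (hik : i ≠ k) : Nat.card (X i j) ≤ Nat.card (X i k) := by
  obtain ⟨b, hb, hb1⟩ := h.ne_bot j k hjk
  exact Nat.card_le_card_of_injective _ (h.rhom_injective hij hjk hik hb hb1)

theorem lsurj {i j k : ι} (hij : i ≠ j) (hjk : j ≠ k) (hik : i ≠ k) {a : G} (ha : a ∈ X i j) (ha1 : a ≠ 1) {c : G}
    (hc : c ∈ X i k) : ∃ b ∈ X j k, ⁅a, b⁆ = c := by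
  have hinj := h.lhom_injective hij hjk hik ha ha1
  have hcard : Nat.card (X j k) = Nat.card (X i k) :=
    le_antisymm (h.card_le_left hij hjk hik) (h.card_le_left hij.symm hik hjk)
  have hbij := (Nat.bijective_iff_injective_and_card _).2 ⟨hinj, hcard⟩
  obtain ⟨b, hb⟩ := hbij.2 ⟨c, hc⟩
  exact ⟨b, b.2, congrArg Subtype.val hb⟩

theorem rsurj {i j k : ι} (hij : i ≠ j) (hjk : j ≠ k) (hik : i ≠ k) {b : G} (hb : b ∈ X j k) (hb1 : b ≠ 1) {c : G}
    (hc : c ∈ X i k) : ∃ a ∈ X i j, ⁅a, b⁆ = c := by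
  have hinj := h.rhom_injective hij hjk hik hb hb1
  have hcard : Nat.card (X i j) = Nat.card (X i k) :=
    le_antisymm (h.card_le_right hij hjk hik) (h.card_le_right hik hjk.symm hij)
  have hbij := (Nat.bijective_iff_injective_and_card _).2 ⟨hinj, hcard⟩
  obtain ⟨a, ha⟩ := hbij.2 ⟨c, hc⟩
  exact ⟨a, a.2, congrArg Subtype.val ha⟩

theorem mul_comm' {i j k : ι} (hij : i ≠ j) (hki : k ≠ i) (hkj : k ≠ j) {y y' : G} (hy : y ∈ X i j) (hy' : y' ∈ X i j) :
    y * y' = y' * y := by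
  obtain ⟨a, ha, ha1⟩ := h.ne_bot i k hki.symm
  obtain ⟨b, hb, rfl⟩ := h.lsurj hki.symm hkj hij ha ha1 hy
  have h1 : Commute y' a := h.comm i j i k hij hki.symm hij.symm hki.symm y' hy' a ha
  have h2 : Commute y' b := h.comm i j k j hij hkj hkj.symm hij y' hy' b hb
  have h3 : Commute y' ⁅a, b⁆ := by
    rw [commutatorElement_def a b]
    exact ((h1.mul_right h2).mul_right h1.inv_right).mul_right h2.inv_right
  exact h3.eq.symm

end Graded

/-- every finite field has a copy in `Type` -/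
theorem exists_type_field (R : Type v) [Field R] [Finite R] :
    ∃ (F : Type) (_ : Field F) (_ : Fintype F), Nonempty (F ≃+* R) := by
  obtain ⟨S, hS, ⟨E⟩⟩ : ∃ (S : Type) (_ : Fintype S), Nonempty (S ≃ R) :=
    ⟨Fin (Nat.card R), inferInstance, ⟨(Finite.equivFin R).symm⟩⟩
  exact ⟨S, E.field, hS, ⟨E.ringEquiv⟩⟩

theorem exists_fourth [Fintype ι] [DecidableEq ι] (hι : 4 ≤ Fintype.card ι) (i j k : ι) :
    ∃ l : ι, l ≠ i ∧ l ≠ j ∧ l ≠ k := by
  by_contra hcon
  push Not at hcon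
  have h1 : (Finset.univ : Finset ι) ⊆ {i, j, k} := by
    intro l _
    by_cases hli : l = i
    · simp [hli]
    · by_cases hlj : l = j
      · simp [hlj]
      · simp [hcon l hli hlj]
  have h2 := Finset.card_le_card h1
  have h3 := Finset.card_le_three (a := i) (b := j) (c := k)
  rw [Finset.card_univ] at h2
  omega

namespace Graded

variable {X : ι → ι → Subgroup G} (h : Graded X)

/-- a system of units -/
structure IsUnit' (X : ι → ι → Subgroup G) (e : ι → ι → G) : Prop where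
  mem : ∀ i j, i ≠ j → e i j ∈ X i j
  ne : ∀ i j, i ≠ j → e i j ≠ 1
  br : ∀ i j k, i ≠ j → j ≠ k → i ≠ k → ⁅e i j, e j k⁆ = e i k
  diag : ∀ i, e i i = 1

variable [Finite G] [Fintype ι] [DecidableEq ι]

include h

theorem exists_unit (hι : 4 ≤ Fintype.card ι) : ∃ e, IsUnit' X e := by
  classical
  have hne : Nonempty ι := Fintype.card_pos_iff.1 (by omega)
  obtain ⟨o⟩ := hne
  have H1 : ∀ j, ∃ a, o ≠ j → a ∈ X o j ∧ a ≠ 1 := fun j => by
    by_cases hj : o = j
    · exact ⟨1, fun hh => absurd hj hh⟩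
    · obtain ⟨a, ha, ha1⟩ := h.ne_bot o j hj
      exact ⟨a, fun _ => ⟨ha, ha1⟩⟩
  choose eo heo using H1
  have H2 : ∀ i j, ∃ a, o ≠ i → o ≠ j → i ≠ j → a ∈ X i j ∧ ⁅eo i, a⁆ = eo j := fun i j => by
    by_cases hi : o = i
    · exact ⟨1, fun hh => absurd hi hh⟩
    by_cases hj : o = j
    · exact ⟨1, fun _ hh => absurd hj hh⟩
    by_cases hij : i = j
    · exact ⟨1, fun _ _ hh => absurd hij hh⟩
    obtain ⟨a, ha, hae⟩ := h.lsurj hi hij hj (heo i hi).1 (heo i hi).2 (heo j hj).1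
    exact ⟨a, fun _ _ _ => ⟨ha, hae⟩⟩
  choose e2 he2 using H2
  have he2ne : ∀ i j, o ≠ i → o ≠ j → i ≠ j → e2 i j ≠ 1 := by
    intro i j hi hj hij h1
    have := (he2 i j hi hj hij).2
    rw [h1, commutatorElement_one_right] at this
    exact (heo j hj).2 this.symm
  have E1a : ∀ i j k, o ≠ i → o ≠ j → o ≠ k → i ≠ j → j ≠ k → i ≠ k → ⁅e2 i j, e2 j k⁆ = e2 i k := by
    intro i j k hi hj hk hij hjk hik
    refine h.br_left_inj hi hik hk (heo i hi).1 (heo i hi).2
      (h.br_mem i j k hij hjk hik _ (he2 i j hi hj hij).1 _ (he2 j k hj hk hjk).1) (he2 i k hi hk hik).1 ?_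
    rw [← h.assoc hi hj hk hij hik hjk (heo i hi).1 (he2 i j hi hj hij).1 (he2 j k hj hk hjk).1,
      (he2 i j hi hj hij).2, (he2 j k hj hk hjk).2, (he2 i k hi hk hik).2]
  have H3 : ∀ i, ∃ a, o ≠ i → a ∈ X i o ∧ ∀ k, o ≠ k → i ≠ k → ⁅a, eo k⁆ = e2 i k := fun i => by
    by_cases hi : o = i
    · exact ⟨1, fun hh => absurd hi hh⟩
    obtain ⟨k0, hk0o, hk0i, -⟩ := exists_fourth hι o i i
    obtain ⟨a, ha, hae⟩ := h.rsurj (Ne.symm hi) hk0o.symm hk0i.symm (heo k0 hk0o.symm).1 (heo k0 hk0o.symm).2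
      (he2 i k0 hi hk0o.symm hk0i.symm).1
    refine ⟨a, fun _ => ⟨ha, fun k hk hik => ?_⟩⟩
    by_cases hkk : k0 = k
    · rw [← hkk]; exact hae
    · rw [← (he2 k0 k hk0o.symm hk hkk).2, ← h.assoc (Ne.symm hi) hk0i.symm hik hk0o.symm hk hkk ha
        (heo k0 hk0o.symm).1 (he2 k0 k hk0o.symm hk hkk).1, hae, E1a i k0 k hi hk0o.symm hk hk0i.symm hkk hik]
  choose e3 he3 using H3
  have he3ne : ∀ i, o ≠ i → e3 i ≠ 1 := by
    intro i hi h1
    obtain ⟨k0, hk0o, hk0i, -⟩ := exists_fourth hι o i i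
    have := (he3 i hi).2 k0 hk0o.symm hk0i.symm
    rw [h1, commutatorElement_one_left] at this
    exact he2ne i k0 hi hk0o.symm hk0i.symm this.symm
  refine ⟨fun i j => if i = j then 1 else if o = i then eo j else if o = j then e3 i else e2 i j, ?_, ?_, ?_, ?_⟩
  · intro i j hij
    simp only [hij, if_false]
    by_cases hi : o = i
    · subst hi
      simp only [if_true]
      exact (heo j hij).1
    · simp only [hi, if_false]
      by_cases hj : o = j
      · subst hj
        simp only [if_true]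
        exact (he3 i hi).1
      · simp only [hj, if_false]
        exact (he2 i j hi hj hij).1
  · intro i j hij
    simp only [hij, if_false]
    by_cases hi : o = i
    · subst hi
      simp only [if_true]
      exact (heo j hij).2
    · simp only [hi, if_false]
      by_cases hj : o = j
      · subst hj
        simp only [if_true]
        exact he3ne i hi
      · simp only [hj, if_false]
        exact he2ne i j hi hj hij
  · intro i j k hij hjk hik
    simp only [hij, hjk, hik, if_false]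
    by_cases hi : o = i
    · subst hi
      simp only [if_true, hij, hik, if_false]
      exact (he2 j k hij hik hjk).2
    · simp only [hi, if_false]
      by_cases hj : o = j
      · subst hj
        simp only [if_true, hjk, if_false]
        exact (he3 i hi).2 k hjk hik
      · simp only [hj, if_false]
        by_cases hk : o = k
        · subst hk
          simp only [if_true]
          obtain ⟨l, hlo, hli, hlj⟩ := exists_fourth hι o i j
          refine h.br_right_inj (Ne.symm hi) hlo.symm hli.symm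
            (h.br_mem i j o hij hjk hik _ (he2 i j hi hj hij).1 _ (he3 j hj).1) (he3 i hi).1
            (heo l hlo.symm).1 (heo l hlo.symm).2 ?_
          rw [h.assoc hij hik hli.symm hjk hlj.symm hlo.symm (he2 i j hi hj hij).1 (he3 j hj).1 (heo l hlo.symm).1,
            (he3 j hj).2 l hlo.symm hlj.symm, (he3 i hi).2 l hlo.symm hli.symm,
            E1a i j l hi hj hlo.symm hij hlj.symm hli.symm]
        · simp only [hk, if_false]
          exact E1a i j k hi hj hk hij hjk hik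
  · intro i
    simp

/-- consistent families with respect to a unit system -/
structure IsFam (X : ι → ι → Subgroup G) (e f : ι → ι → G) : Prop where
  mem : ∀ i j, i ≠ j → f i j ∈ X i j
  right : ∀ i j k, i ≠ j → j ≠ k → i ≠ k → ⁅f i j, e j k⁆ = f i k
  left : ∀ i j k, i ≠ j → j ≠ k → i ≠ k → ⁅e i j, f j k⁆ = f i k
  diag : ∀ i, f i i = 1

/-- extension of an element of `X o p` to a consistent family -/
theorem exists_fam (hι : 4 ≤ Fintype.card ι) {e : ι → ι → G} (he : IsUnit' X e) {o p : ι} (hop : o ≠ p) {x : G}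
    (hx : x ∈ X o p) : ∃ f, IsFam X e f ∧ f o p = x := by
  classical
  let r : ι → G := fun j => if j = p then x else ⁅x, e p j⁆
  have hrp : r p = x := by simp [r]
  have hr : ∀ j, o ≠ j → r j ∈ X o j := by
    intro j hj
    by_cases hjp : j = p
    · subst hjp; rw [hrp]; exact hx
    · simp only [r, if_neg hjp]
      exact h.br_mem o p j hop (Ne.symm hjp) hj _ hx _ (he.mem p j (Ne.symm hjp))
  have hrr : ∀ j k, o ≠ j → o ≠ k → j ≠ k → ⁅r j, e j k⁆ = r k := by
    intro j k hj hk hjk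
    by_cases hjp : j = p
    · subst hjp
      rw [hrp]
      simp only [r, if_neg (Ne.symm hjk)]
    · by_cases hkp : k = p
      · subst hkp
        rw [hrp]
        simp only [r, if_neg hjp]
        obtain ⟨l, hlo, hlk, hlj⟩ := exists_fourth hι o k j
        obtain ⟨y, hy, hyx⟩ := h.rsurj hlo.symm hlk hk (he.mem l k hlk) (he.ne l k hlk) hx
        rw [← hyx, h.assoc hlo.symm hk hj hlk hlj (Ne.symm hjk) hy (he.mem l k hlk) (he.mem k j (Ne.symm hjk)),
          he.br l k j hlk (Ne.symm hjk) hlj, h.assoc hlo.symm hj hk hlj hlk hjk hy (he.mem l j hlj) (he.mem j k hjk),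
          he.br l j k hlj hjk hlk]
      · simp only [r, if_neg hjp, if_neg hkp]
        rw [h.assoc hop hj hk (Ne.symm hjp) (Ne.symm hkp) hjk hx (he.mem p j (Ne.symm hjp)) (he.mem j k hjk),
          he.br p j k (Ne.symm hjp) hjk (Ne.symm hkp)]
  have H2 : ∀ i j, ∃ a, o ≠ i → o ≠ j → i ≠ j → a ∈ X i j ∧ ⁅e o i, a⁆ = r j := fun i j => by
    by_cases hi : o = i
    · exact ⟨1, fun hh => absurd hi hh⟩
    by_cases hj : o = j
    · exact ⟨1, fun _ hh => absurd hj hh⟩
    by_cases hij : i = j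
    · exact ⟨1, fun _ _ hh => absurd hij hh⟩
    obtain ⟨a, ha, hae⟩ := h.lsurj hi hij hj (he.mem o i hi) (he.ne o i hi) (hr j hj)
    exact ⟨a, fun _ _ _ => ⟨ha, hae⟩⟩
  choose f2 hf2 using H2
  have F1 : ∀ i j k, o ≠ i → o ≠ j → o ≠ k → i ≠ j → j ≠ k → i ≠ k → ⁅f2 i j, e j k⁆ = f2 i k := by
    intro i j k hi hj hk hij hjk hik
    refine h.br_left_inj hi hik hk (he.mem o i hi) (he.ne o i hi)
      (h.br_mem i j k hij hjk hik _ (hf2 i j hi hj hij).1 _ (he.mem j k hjk)) (hf2 i k hi hk hik).1 ?_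
    rw [← h.assoc hi hj hk hij hik hjk (he.mem o i hi) (hf2 i j hi hj hij).1 (he.mem j k hjk),
      (hf2 i j hi hj hij).2, (hf2 i k hi hk hik).2, hrr j k hj hk hjk]
  have F2 : ∀ i j k, o ≠ i → o ≠ j → o ≠ k → i ≠ j → j ≠ k → i ≠ k → ⁅e i j, f2 j k⁆ = f2 i k := by
    intro i j k hi hj hk hij hjk hik
    refine h.br_left_inj hi hik hk (he.mem o i hi) (he.ne o i hi)
      (h.br_mem i j k hij hjk hik _ (he.mem i j hij) _ (hf2 j k hj hk hjk).1) (hf2 i k hi hk hik).1 ?_
    rw [← h.assoc hi hj hk hij hik hjk (he.mem o i hi) (he.mem i j hij) (hf2 j k hj hk hjk).1,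
      he.br o i j hi hij hj, (hf2 j k hj hk hjk).2, (hf2 i k hi hk hik).2]
  have H3 : ∀ i, ∃ a, o ≠ i → a ∈ X i o ∧ ∀ k, o ≠ k → i ≠ k → ⁅a, e o k⁆ = f2 i k := fun i => by
    by_cases hi : o = i
    · exact ⟨1, fun hh => absurd hi hh⟩
    obtain ⟨k0, hk0o, hk0i, -⟩ := exists_fourth hι o i i
    obtain ⟨a, ha, hae⟩ := h.rsurj (Ne.symm hi) hk0o.symm hk0i.symm (he.mem o k0 hk0o.symm) (he.ne o k0 hk0o.symm)
      (hf2 i k0 hi hk0o.symm hk0i.symm).1
    refine ⟨a, fun _ => ⟨ha, fun k hk hik => ?_⟩⟩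
    by_cases hkk : k0 = k
    · rw [← hkk]; exact hae
    · rw [← he.br o k0 k hk0o.symm hkk hk, ← h.assoc (Ne.symm hi) hk0i.symm hik hk0o.symm hk hkk ha
        (he.mem o k0 hk0o.symm) (he.mem k0 k hkk), hae, F1 i k0 k hi hk0o.symm hk hk0i.symm hkk hik]
  choose f3 hf3 using H3
  refine ⟨fun i j => if i = j then 1 else if o = i then r j else if o = j then f3 i else f2 i j,
    ⟨?_, ?_, ?_, ?_⟩, ?_⟩
  · intro i j hij
    simp only [hij, if_false]
    by_cases hi : o = i
    · subst hi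
      simp only [if_true]
      exact hr j hij
    · simp only [hi, if_false]
      by_cases hj : o = j
      · subst hj
        simp only [if_true]
        exact (hf3 i hi).1
      · simp only [hj, if_false]
        exact (hf2 i j hi hj hij).1
  · intro i j k hij hjk hik
    simp only [hij, hik, if_false]
    by_cases hi : o = i
    · subst hi
      simp only [if_true]
      exact hrr j k hij hik hjk
    · simp only [hi, if_false]
      by_cases hj : o = j
      · subst hj
        simp only [if_true, hjk, if_false]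
        exact (hf3 i hi).2 k hjk hik
      · simp only [hj, if_false]
        by_cases hk : o = k
        · subst hk
          simp only [if_true]
          obtain ⟨l, hlo, hli, hlj⟩ := exists_fourth hι o i j
          refine h.br_right_inj (Ne.symm hi) hlo.symm hli.symm
            (h.br_mem i j o hij hjk hik _ (hf2 i j hi hj hij).1 _ (he.mem j o hjk)) (hf3 i hi).1
            (he.mem o l hlo.symm) (he.ne o l hlo.symm) ?_
          rw [h.assoc hij hik hli.symm hjk hlj.symm hlo.symm (hf2 i j hi hj hij).1 (he.mem j o hjk) (he.mem o l hlo.symm),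
            he.br j o l hjk hlo.symm hlj.symm, (hf3 i hi).2 l hlo.symm hli.symm,
            F1 i j l hi hj hlo.symm hij hlj.symm hli.symm]
        · simp only [hk, if_false]
          exact F1 i j k hi hj hk hij hjk hik
  · intro i j k hij hjk hik
    simp only [hjk, hik, if_false]
    by_cases hi : o = i
    · subst hi
      simp only [if_true, hij, hik, if_false]
      exact (hf2 j k hij hik hjk).2
    · simp only [hi, if_false]
      by_cases hj : o = j
      · subst hj
        simp only [if_true, hjk, if_false]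
        obtain ⟨l, hlo, hli, hlk⟩ := exists_fourth hι o i k
        rw [← (hf2 l k hlo.symm hjk hlk).2, ← h.assoc hij hli.symm hik hlo.symm hjk hlk (he.mem i o hij)
          (he.mem o l hlo.symm) (hf2 l k hlo.symm hjk hlk).1, he.br i o l hij hlo.symm hli.symm,
          F2 i l k hi hlo.symm hjk hli.symm hlk hik]
      · simp only [hj, if_false]
        by_cases hk : o = k
        · subst hk
          simp only [if_true]
          obtain ⟨l, hlo, hli, hlj⟩ := exists_fourth hι o i j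
          refine h.br_right_inj (Ne.symm hi) hlo.symm hli.symm
            (h.br_mem i j o hij hjk hik _ (he.mem i j hij) _ (hf3 j hj).1) (hf3 i hi).1
            (he.mem o l hlo.symm) (he.ne o l hlo.symm) ?_
          rw [h.assoc hij hik hli.symm hjk hlj.symm hlo.symm (he.mem i j hij) (hf3 j hj).1 (he.mem o l hlo.symm),
            (hf3 j hj).2 l hlo.symm hlj.symm, (hf3 i hi).2 l hlo.symm hli.symm,
            F2 i j l hi hj hlo.symm hij hlj.symm hli.symm]
        · simp only [hk, if_false]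
          exact F2 i j k hi hj hk hij hjk hik
  · intro i
    simp
  · simp only [hop, if_false, if_true]
    exact hrp

theorem fam_ext (hι : 4 ≤ Fintype.card ι) {e f g : ι → ι → G} (hf : IsFam X e f) (hg : IsFam X e g) {i j : ι}
    (hij : i ≠ j) (heq : f i j = g i j) : f = g := by
  have h1 : ∀ k, i ≠ k → f i k = g i k := by
    intro k hk
    by_cases hkj : j = k
    · rw [← hkj]; exact heq
    · rw [← hf.right i j k hij hkj hk, ← hg.right i j k hij hkj hk, heq]
  have h2 : ∀ l k, l ≠ i → k ≠ i → l ≠ k → f l k = g l k := by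
    intro l k hl hk hlk
    rw [← hf.left l i k hl hk.symm hlk, ← hg.left l i k hl hk.symm hlk, h1 k hk.symm]
  funext l k
  by_cases hlk : l = k
  · subst hlk
    rw [hf.diag, hg.diag]
  by_cases hl : l = i
  · subst hl
    exact h1 k hlk
  by_cases hk : k = i
  · subst hk
    obtain ⟨m, hml, hmk, -⟩ := exists_fourth hι l k k
    rw [← hf.right l m k hml.symm hmk hlk, ← hg.right l m k hml.symm hmk hlk, h2 l m hl hmk hml.symm]
  · exact h2 l k hl hk hlk

theorem fam_add {e f g : ι → ι → G} (he : IsUnit' X e) (hf : IsFam X e f) (hg : IsFam X e g) :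
    IsFam X e (fun i j => f i j * g i j) := by
  refine ⟨fun i j hij => mul_mem (hf.mem i j hij) (hg.mem i j hij), fun i j k hij hjk hik => ?_,
    fun i j k hij hjk hik => ?_, fun i => ?_⟩
  · rw [h.br_mul_left hij hjk hik (hf.mem i j hij) (hg.mem i j hij) (he.mem j k hjk), hf.right i j k hij hjk hik,
      hg.right i j k hij hjk hik]
  · rw [h.br_mul_right hij hjk hik (he.mem i j hij) (hf.mem j k hjk) (hg.mem j k hjk), hf.left i j k hij hjk hik,
      hg.left i j k hij hjk hik]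
  · rw [hf.diag, hg.diag, mul_one]

theorem fam_zero {e : ι → ι → G} (he : IsUnit' X e) : IsFam X e (fun _ _ => 1) :=
  ⟨fun i j _ => one_mem _, fun i j k _ _ _ => commutatorElement_one_left _,
    fun i j k _ _ _ => commutatorElement_one_right _, fun _ => rfl⟩

theorem fam_one {e : ι → ι → G} (he : IsUnit' X e) : IsFam X e e :=
  ⟨he.mem, he.br, he.br, he.diag⟩

theorem fam_neg {e f : ι → ι → G} (he : IsUnit' X e) (hf : IsFam X e f) :
    IsFam X e (fun i j => (f i j)⁻¹) := by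
  refine ⟨fun i j hij => inv_mem (hf.mem i j hij), fun i j k hij hjk hik => ?_,
    fun i j k hij hjk hik => ?_, fun i => ?_⟩
  · have := h.br_mul_left hij hjk hik (hf.mem i j hij) (inv_mem (hf.mem i j hij)) (he.mem j k hjk)
    rw [mul_inv_cancel, commutatorElement_one_left, hf.right i j k hij hjk hik] at this
    exact eq_inv_of_mul_eq_one_right this.symm
  · have := h.br_mul_right hij hjk hik (he.mem i j hij) (hf.mem j k hjk) (inv_mem (hf.mem j k hjk))
    rw [mul_inv_cancel, commutatorElement_one_right, hf.left i j k hij hjk hik] at this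
    exact eq_inv_of_mul_eq_one_right this.symm
  · rw [hf.diag, inv_one]

theorem fam_mul (hι : 4 ≤ Fintype.card ι) {e f g : ι → ι → G} (he : IsUnit' X e) (hf : IsFam X e f)
    (hg : IsFam X e g) : ∃ m, IsFam X e m ∧ ∀ i j k, i ≠ j → j ≠ k → i ≠ k → ⁅f i j, g j k⁆ = m i k := by
  classical
  have H : ∀ i k, ∃ c, (i ≠ k → c ∈ X i k ∧ ∀ j, i ≠ j → j ≠ k → ⁅f i j, g j k⁆ = c) ∧ (i = k → c = 1) := by
    intro i k
    by_cases hik : i = k
    · exact ⟨1, fun hh => absurd hik hh, fun _ => rfl⟩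
    obtain ⟨j0, hj0i, hj0k, -⟩ := exists_fourth hι i k k
    refine ⟨⁅f i j0, g j0 k⁆, fun _ => ⟨h.br_mem i j0 k hj0i.symm hj0k hik _ (hf.mem i j0 hj0i.symm) _
      (hg.mem j0 k hj0k), fun j hij hjk => ?_⟩, fun hh => absurd hh hik⟩
    by_cases hjj : j0 = j
    · rw [← hjj]
    · rw [← hf.right i j0 j hj0i.symm hjj hij, h.assoc hj0i.symm hij hik hjj hj0k hjk (hf.mem i j0 hj0i.symm)
        (he.mem j0 j hjj) (hg.mem j k hjk), hg.left j0 j k hjj hjk hj0k]
  choose m hm hm1 using H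
  refine ⟨m, ⟨fun i j hij => (hm i j hij).1, fun i j k hij hjk hik => ?_, fun i j k hij hjk hik => ?_,
    fun i => hm1 i i rfl⟩, fun i j k hij hjk hik => (hm i k hik).2 j hij hjk⟩
  · obtain ⟨l, hli, hlj, hlk⟩ := exists_fourth hι i j k
    rw [← (hm i j hij).2 l hli.symm hlj, ← (hm i k hik).2 l hli.symm hlk, h.assoc hli.symm hij hik hlj hlk hjk
      (hf.mem i l hli.symm) (hg.mem l j hlj) (he.mem j k hjk), hg.right l j k hlj hjk hlk]
  · obtain ⟨l, hli, hlj, hlk⟩ := exists_fourth hι i j k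
    rw [← (hm j k hjk).2 l hlj.symm hlk, ← (hm i k hik).2 l hli.symm hlk, ← h.assoc hij hli.symm hik hlj.symm hjk hlk
      (he.mem i j hij) (hf.mem j l hlj.symm) (hg.mem l k hlk), hf.left i j l hij hlj.symm hli.symm]

theorem exists_field' (hι : 4 ≤ Fintype.card ι) : ∃ (F : Type (max u w)) (_ : Field F) (_ : Finite F)
    (x : ι → ι → F → G),
    SteinRel x ∧ ∀ i j, i ≠ j → (∀ a, x i j a ∈ X i j) ∧ ∀ y ∈ X i j, ∃! a, x i j a = y := by
  classical
  obtain ⟨e, he⟩ := h.exists_unit hι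
  have hne : Nonempty ι := Fintype.card_pos_iff.1 (by omega)
  obtain ⟨o⟩ := hne
  obtain ⟨p, hpo, -, -⟩ := exists_fourth hι o o o
  let R : Type _ := {f : ι → ι → G // IsFam X e f}
  have ext : ∀ {f g : R} (i j : ι), i ≠ j → f.1 i j = g.1 i j → f = g := fun {f g} i j hij hfg =>
    Subtype.ext (h.fam_ext hι f.2 g.2 hij hfg)
  choose mulf hmulfam hmul using fun f g : R => h.fam_mul hι he f.2 g.2
  letI : Add R := ⟨fun f g => ⟨_, h.fam_add he f.2 g.2⟩⟩
  letI : Mul R := ⟨fun f g => ⟨mulf f g, hmulfam f g⟩⟩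
  letI : Neg R := ⟨fun f => ⟨_, h.fam_neg he f.2⟩⟩
  letI : Zero R := ⟨⟨_, h.fam_zero he⟩⟩
  letI : One R := ⟨⟨e, h.fam_one he⟩⟩
  have hadd' : ∀ (f g : R) i j, (f + g).1 i j = f.1 i j * g.1 i j := fun f g i j => rfl
  have hmul' : ∀ (f g : R) i j k, i ≠ j → j ≠ k → i ≠ k → (f * g).1 i k = ⁅f.1 i j, g.1 j k⁆ :=
    fun f g i j k hij hjk hik => (hmul f g i j k hij hjk hik).symm
  have hneg' : ∀ (f : R) i j, (-f).1 i j = (f.1 i j)⁻¹ := fun f i j => rfl
  have hzero' : ∀ i j, (0 : R).1 i j = 1 := fun i j => rfl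
  have hone' : ∀ i j, (1 : R).1 i j = e i j := fun i j => rfl
  have third : ∀ i j : ι, ∃ k, k ≠ i ∧ k ≠ j := fun i j => by
    obtain ⟨k, hk, hk', -⟩ := exists_fourth hι i j j
    exact ⟨k, hk, hk'⟩
  obtain ⟨q, hqo, hqp⟩ := third o p
  obtain ⟨s, hso, hsp, hsq⟩ := exists_fourth hι o p q
  letI ring : Ring R := Ring.ofMinimalAxioms
    (fun f g k => ext o p hpo.symm (by rw [hadd', hadd', hadd', hadd', mul_assoc]))
    (fun f => ext o p hpo.symm (by rw [hadd', hzero', one_mul]))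
    (fun f => ext o p hpo.symm (by rw [hadd', hzero', hneg', inv_mul_cancel]))
    (fun f g k => ext o p hpo.symm (by
      rw [hmul' (f * g) k o q p hqo.symm hqp hpo.symm, hmul' f g o s q hso.symm hsq hqo.symm,
        hmul' f (g * k) o s p hso.symm hsp hpo.symm, hmul' g k s q p hsq hqp hsp,
        h.assoc hso.symm hqo.symm hpo.symm hsq hsp hqp (f.2.mem o s hso.symm) (g.2.mem s q hsq) (k.2.mem q p hqp)]))
    (fun f => ext o p hpo.symm (by
      rw [hmul' 1 f o q p hqo.symm hqp hpo.symm, hone', f.2.left o q p hqo.symm hqp hpo.symm]))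
    (fun f => ext o p hpo.symm (by
      rw [hmul' f 1 o q p hqo.symm hqp hpo.symm, hone', f.2.right o q p hqo.symm hqp hpo.symm]))
    (fun f g k => ext o p hpo.symm (by
      rw [hmul' f (g + k) o q p hqo.symm hqp hpo.symm, hadd', hadd', hmul' f g o q p hqo.symm hqp hpo.symm,
        hmul' f k o q p hqo.symm hqp hpo.symm,
        h.br_mul_right hqo.symm hqp hpo.symm (f.2.mem o q hqo.symm) (g.2.mem q p hqp) (k.2.mem q p hqp)]))
    (fun f g k => ext o p hpo.symm (by
      rw [hmul' (f + g) k o q p hqo.symm hqp hpo.symm, hadd', hadd', hmul' f k o q p hqo.symm hqp hpo.symm,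
        hmul' g k o q p hqo.symm hqp hpo.symm,
        h.br_mul_left hqo.symm hqp hpo.symm (f.2.mem o q hqo.symm) (g.2.mem o q hqo.symm) (k.2.mem q p hqp)]))
  have hfin : Finite R := Subtype.finite
  have hnontriv : Nontrivial R := ⟨⟨0, 1, fun h01 => by
    have := congrArg (fun f : R => f.1 o p) h01
    simp only [hzero', hone'] at this
    exact he.ne o p hpo.symm this.symm⟩⟩
  have hnz : ∀ f : R, f ≠ 0 → ∀ i j, i ≠ j → f.1 i j ≠ 1 := fun f hf i j hij h1 =>
    hf (ext i j hij (by rw [h1, hzero']))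
  have hnzd : NoZeroDivisors R := ⟨fun {f g} hfg => by
    by_contra hcon
    rw [not_or] at hcon
    have h1 := hmul' f g o q p hqo.symm hqp hpo.symm
    rw [hfg, hzero'] at h1
    exact h.br_ne o q p hqo.symm hqp hpo.symm _ (f.2.mem o q hqo.symm) _ (g.2.mem q p hqp)
      (hnz f hcon.1 o q hqo.symm) (hnz g hcon.2 q p hqp) h1.symm⟩
  have hdom : IsDomain R := NoZeroDivisors.to_isDomain R
  have hfield : IsField R := Finite.isDomain_to_isField R
  letI field : Field R := hfield.toField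
  have hadd'' : ∀ (f g : R) i j, (f + g).1 i j = f.1 i j * g.1 i j := hadd'
  have hmul'' : ∀ (f g : R) i j k, i ≠ j → j ≠ k → i ≠ k → (f * g).1 i k = ⁅f.1 i j, g.1 j k⁆ := hmul'
  refine ⟨R, field, hfin, fun i j a => a.1 i j, ⟨?_, ?_, ?_⟩, ?_⟩
  · intro i j hij a b
    exact hadd'' _ _ _ _
  · intro i j k l hij hkl hjk hil a b
    exact h.comm i j k l hij hkl hjk hil _ (a.2.mem i j hij) _ (b.2.mem k l hkl)
  · intro i j k hij hjk hik a b
    exact (hmul'' _ _ _ _ _ hij hjk hik).symm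
  · intro i j hij
    refine ⟨fun a => a.2.mem i j hij, fun y hy => ?_⟩
    obtain ⟨f, hf, hfy⟩ := h.exists_fam hι he hij hy
    refine ⟨⟨f, hf⟩, hfy, fun b hb => ?_⟩
    exact ext i j hij (hb.trans hfy.symm)

/-- **Coordinatisation.** -/
theorem exists_field (hι : 4 ≤ Fintype.card ι) : ∃ (F : Type) (_ : Field F) (_ : Fintype F) (x : ι → ι → F → G),
    SteinRel x ∧ ∀ i j, i ≠ j → (∀ a, x i j a ∈ X i j) ∧ ∀ y ∈ X i j, ∃! a, x i j a = y := by
  obtain ⟨R, _, _, x, hx, hX⟩ := h.exists_field' hι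
  obtain ⟨F, _, _, ⟨E'⟩⟩ := exists_type_field R
  refine ⟨F, inferInstance, inferInstance, fun i j a => x i j (E' a), ⟨?_, ?_, ?_⟩, ?_⟩
  · intro i j hij a b
    rw [map_add, hx.add i j hij]
  · intro i j k l hij hkl hjk hil a b
    exact hx.comm i j k l hij hkl hjk hil _ _
  · intro i j k hij hjk hik a b
    rw [map_mul, hx.br i j k hij hjk hik]
  · intro i j hij
    refine ⟨fun a => (hX i j hij).1 _, fun y hy => ?_⟩
    obtain ⟨a, ha, hau⟩ := (hX i j hij).2 y hy
    refine ⟨E'.symm a, ?_, fun b hb => ?_⟩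
    · show x i j (E' (E'.symm a)) = y
      rw [RingEquiv.apply_symm_apply]
      exact ha
    · rw [RingEquiv.eq_symm_apply]
      exact hau _ hb

/-- A finite simple group generated by the root subgroups of an `A_n`-grading, `n ≥ 3`, is `PSL`. -/
theorem exists_psl (hι : 4 ≤ Fintype.card ι) [IsSimpleGroup G]
    (hgen : ∀ K : Subgroup G, (∀ i j, i ≠ j → X i j ≤ K) → K = ⊤) :
    ∃ (F : Type) (_ : Field F) (_ : Fintype F), (∀ i j, i ≠ j → Fintype.card F = Nat.card (X i j)) ∧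
      (∀ i j, i ≠ j → ∀ y ∈ X i j, y ^ ringChar F = 1) ∧
      Nonempty (G ≃* Matrix.ProjectiveSpecialLinearGroup ι F) := by
  obtain ⟨F, _, _, x, hx, hX⟩ := h.exists_field hι
  refine ⟨F, inferInstance, inferInstance, ?_, ?_, nonempty_psl hx (by omega) ?_⟩
  · intro i j hij
    rw [← Nat.card_eq_fintype_card]
    refine Nat.card_congr (Equiv.ofBijective (fun a => ⟨x i j a, (hX i j hij).1 a⟩) ⟨fun a b hab => ?_, fun y => ?_⟩)
    · have := congrArg Subtype.val hab
      simp only at this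
      obtain ⟨c, -, hc⟩ := (hX i j hij).2 (x i j a) ((hX i j hij).1 a)
      rw [hc a rfl, hc b this.symm]
    · obtain ⟨a, ha, -⟩ := (hX i j hij).2 y.1 y.2
      exact ⟨a, Subtype.ext ha⟩
  · intro i j hij y hy
    obtain ⟨a, rfl, -⟩ := (hX i j hij).2 y hy
    have h1 : ∀ n : ℕ, (x i j a) ^ n = x i j (n • a) := by
      intro n
      induction n with
      | zero => rw [pow_zero, zero_smul, hx.zero hij]
      | succ n ih => rw [pow_succ, ih, succ_nsmul, hx.add i j hij]
    rw [h1, nsmul_eq_mul, CharP.cast_eq_zero, zero_mul, hx.zero hij]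
  · refine hgen _ fun i j hij y hy => ?_
    obtain ⟨a, rfl, -⟩ := (hX i j hij).2 y hy
    exact Subgroup.subset_closure ⟨i, j, hij, a, rfl⟩

end Graded

end Cfsg.Agent.AGraded
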