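import Cfsg.Agent.AGraded.Coord

/-!
# A homomorphism `SL ι F → G` from the Steinberg relations

If the subgroup generated by elements `x i j a` of a group `G` satisfying the Steinberg relations has trivial centre,
then there is a homomorphism from `SL ι F` onto it which maps elementary transvections to the `x i j a`, and its
kernel is central.
-/

set_option autoImplicit false
set_option linter.unusedSectionVars false
set_option linter.unusedVariables false

namespace Cfsg.Agent.AGraded

open scoped commutatorElement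
open Matrix

universe u v w

variable {ι : Type u} [Fintype ι] [DecidableEq ι] {F : Type v} [Field F]

theorem exists_hom_core {G : Type w} [Group G] {x : ι → ι → F → G} (h : SteinRel x)
    (hι : 3 ≤ Fintype.card ι)
    (hk : ∀ (Γ : Subgroup (G × SpecialLinearGroup ι F)) (y : ι → ι → F → Γ), SteinRel y →
      Subgroup.closure (gens y) = ⊤ → ∀ (p : Γ →* G) (φ : Γ →* SpecialLinearGroup ι F),
      (∀ i j (hij : i ≠ j) a, φ (y i j a) = SpecialLinearGroup.transvection hij a) →
      p.range = Subgroup.closure (gens x) → (∀ z, p z = 1 → φ z = 1 → z = 1) → φ.ker = ⊥) :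
    ∃ π : SpecialLinearGroup ι F →* G,
      (∀ i j (hij : i ≠ j) a, π (SpecialLinearGroup.transvection hij a) = x i j a) ∧
      π.range = Subgroup.closure (gens x) ∧
      ((∃ i j, i ≠ j ∧ ∃ a, x i j a ≠ 1) → π.ker ≤ Subgroup.center (SpecialLinearGroup ι F)) := by
  classical
  let X : ι → ι → F → G × SpecialLinearGroup ι F := fun i j a =>
    (x i j a, if hij : i = j then 1 else SpecialLinearGroup.transvection hij a)
  let Γ : Subgroup (G × SpecialLinearGroup ι F) := Subgroup.closure (gens X)
  have hXΓ : ∀ i j, i ≠ j → ∀ a, X i j a ∈ Γ := fun i j hij a => Subgroup.subset_closure ⟨i, j, hij, a, rfl⟩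
  let y : ι → ι → F → Γ := fun i j a => if hij : i = j then 1 else ⟨X i j a, hXΓ i j hij a⟩
  have hy : ∀ i j (hij : i ≠ j) a, y i j a = ⟨X i j a, hXΓ i j hij a⟩ := fun i j hij a => by
    simp only [y, dif_neg hij]
  have hX : ∀ i j (hij : i ≠ j) a, X i j a = (x i j a, SpecialLinearGroup.transvection hij a) := fun i j hij a => by
    simp only [X, dif_neg hij]
  have hadd : ∀ i j (hij : i ≠ j) (a b : F), SpecialLinearGroup.transvection hij (a + b) =
      (SpecialLinearGroup.transvection hij a : SpecialLinearGroup ι F) * SpecialLinearGroup.transvection hij b := by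
    intro i j hij a b
    apply Cfsg.Agent.LieClassical.SLGen.smul_ext
    intro v
    rw [mul_smul]
    simp only [Cfsg.Agent.LieClassical.SLGen.transvection_smul]
    ext l
    by_cases hl : l = i
    · subst hl
      simp [Ne.symm hij]
      ring
    · simp [hl, Ne.symm hij]
  have hcomm : ∀ i j k l (hij : i ≠ j) (hkl : k ≠ l), j ≠ k → i ≠ l → ∀ a b : F,
      (SpecialLinearGroup.transvection hij a : SpecialLinearGroup ι F) * SpecialLinearGroup.transvection hkl b =
      SpecialLinearGroup.transvection hkl b * SpecialLinearGroup.transvection hij a := by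
    intro i j k l hij hkl hjk hil a b
    apply Cfsg.Agent.LieClassical.SLGen.smul_ext
    intro v
    rw [mul_smul, mul_smul]
    simp only [Cfsg.Agent.LieClassical.SLGen.transvection_smul]
    ext m
    simp [hjk, Ne.symm hil]
    ring
  have hy' : SteinRel y := by
    refine ⟨?_, ?_, ?_⟩
    · intro i j hij a b
      rw [hy i j hij, hy i j hij, hy i j hij]
      apply Subtype.ext
      rw [Subgroup.coe_mul]
      change X i j (a + b) = X i j a * X i j b
      rw [hX i j hij, hX i j hij, hX i j hij, Prod.mk_mul_mk, h.add i j hij, hadd i j hij]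
    · intro i j k l hij hkl hjk hil a b
      rw [hy i j hij, hy k l hkl]
      apply Subtype.ext
      rw [Subgroup.coe_mul, Subgroup.coe_mul]
      change X i j a * X k l b = X k l b * X i j a
      rw [hX i j hij, hX k l hkl, Prod.mk_mul_mk, Prod.mk_mul_mk, h.comm i j k l hij hkl hjk hil,
        hcomm i j k l hij hkl hjk hil]
    · intro i j k hij hjk hik a b
      rw [hy i j hij, hy j k hjk, hy i k hik]
      apply Subtype.ext
      change ⁅X i j a, X j k b⁆ = X i k (a * b)
      rw [hX i j hij, hX j k hjk, hX i k hik]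
      apply Prod.ext
      · change ⁅x i j a, x j k b⁆ = x i k (a * b)
        exact h.br i j k hij hjk hik a b
      · change ⁅(SpecialLinearGroup.transvection hij a : SpecialLinearGroup ι F),
          SpecialLinearGroup.transvection hjk b⁆ = SpecialLinearGroup.transvection hik (a * b)
        exact Cfsg.Agent.LieClassical.SLGen.commutator_transvection hik hij hjk a b
  have hygen : Subgroup.closure (gens y) = ⊤ := by
    rw [eq_top_iff]
    rintro ⟨g, hg⟩ -
    have hg' : g ∈ Subgroup.closure (gens X) := hg
    induction hg' using Subgroup.closure_induction with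
    | mem z hz =>
      obtain ⟨i, j, hij, a, rfl⟩ := hz
      exact Subgroup.subset_closure ⟨i, j, hij, a, (hy i j hij a).symm⟩
    | one => exact one_mem _
    | mul z t hz ht h1 h2 => exact mul_mem (h1 hz) (h2 ht)
    | inv z hz h1 => exact inv_mem (h1 hz)
  let p : Γ →* G := (MonoidHom.fst G _).comp Γ.subtype
  let φ : Γ →* SpecialLinearGroup ι F := (MonoidHom.snd G _).comp Γ.subtype
  have hφ : ∀ i j (hij : i ≠ j) a, φ (y i j a) = SpecialLinearGroup.transvection hij a := by
    intro i j hij a
    rw [hy i j hij]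
    change (X i j a).2 = _
    rw [hX i j hij]
  have hp : ∀ i j (hij : i ≠ j) a, p (y i j a) = x i j a := by
    intro i j hij a
    rw [hy i j hij]
    change (X i j a).1 = _
    rw [hX i j hij]
  have hprange : p.range = Subgroup.closure (gens x) := by
    apply le_antisymm
    · rw [MonoidHom.range_eq_map, ← hygen, MonoidHom.map_closure, Subgroup.closure_le]
      rintro _ ⟨z, ⟨i, j, hij, a, rfl⟩, rfl⟩
      rw [hp i j hij]
      exact Subgroup.subset_closure ⟨i, j, hij, a, rfl⟩
    · rw [Subgroup.closure_le]
      rintro z ⟨i, j, hij, a, rfl⟩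
      exact ⟨y i j a, hp i j hij a⟩
  have hφsurj : Function.Surjective φ := by
    rw [← MonoidHom.range_eq_top, eq_top_iff, ← Cfsg.Agent.LieClassical.SLGen.closure_transvections,
      Subgroup.closure_le]
    rintro z ⟨i, j, hij, a, rfl⟩
    exact ⟨y i j a, hφ i j hij a⟩
  have hφinj : Function.Injective φ := by
    rw [← MonoidHom.ker_eq_bot_iff]
    exact hk Γ y hy' hygen p φ hφ hprange fun z h1 h2 => Subtype.ext (Prod.ext h1 h2)
  let e : Γ ≃* SpecialLinearGroup ι F := MulEquiv.ofBijective φ ⟨hφinj, hφsurj⟩
  have he : ∀ z, e z = φ z := fun z => rfl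
  let π : SpecialLinearGroup ι F →* G := p.comp e.symm.toMonoidHom
  have hπe : ∀ z : Γ, π (φ z) = p z := by
    intro z
    change p (e.symm (φ z)) = p z
    rw [← he, MulEquiv.symm_apply_apply]
  have hπ : ∀ i j (hij : i ≠ j) a, π (SpecialLinearGroup.transvection hij a) = x i j a := by
    intro i j hij a
    rw [← hφ i j hij a, hπe, hp i j hij]
  have hπr : π.range = Subgroup.closure (gens x) := by
    rw [← hprange]
    apply le_antisymm
    · rintro _ ⟨s, rfl⟩
      exact ⟨e.symm s, rfl⟩
    · rintro _ ⟨z, rfl⟩
      exact ⟨φ z, hπe z⟩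
  refine ⟨π, hπ, hπr, ?_⟩
  rintro ⟨i, j, hij, a, ha⟩
  -- the kernel is a normal subgroup
  have hsimple : IsSimpleGroup (Matrix.ProjectiveSpecialLinearGroup ι F) :=
    Cfsg.Agent.LieClassical.SLGen.psl_isSimpleGroup hι
  let ψ : SpecialLinearGroup ι F →* Matrix.ProjectiveSpecialLinearGroup ι F := QuotientGroup.mk' _
  have hψsurj : Function.Surjective ψ := QuotientGroup.mk'_surjective _
  have hψker : ∀ s, ψ s = 1 → s ∈ Subgroup.center (SpecialLinearGroup ι F) := fun s hs =>
    (QuotientGroup.eq_one_iff _).1 hs
  have hnorm : (π.ker.map ψ).Normal := Subgroup.Normal.map inferInstance ψ hψsurj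
  rcases hnorm.eq_bot_or_eq_top with h1 | h1
  · rw [Subgroup.map_eq_bot_iff] at h1
    intro s hs
    exact hψker s (h1 hs)
  · exfalso
    -- the image is commutative
    have h2 : ∀ s t : SpecialLinearGroup ι F, π s * π t = π t * π s := by
      intro s t
      have h3 : ψ s ∈ π.ker.map ψ := by rw [h1]; exact Subgroup.mem_top _
      obtain ⟨k, hk, hks⟩ := h3
      have h4 : k⁻¹ * s ∈ Subgroup.center (SpecialLinearGroup ι F) := by
        apply hψker
        rw [map_mul, map_inv, hks, inv_mul_cancel]
      have h5 := congrArg π (Subgroup.mem_center_iff.1 h4 t)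
      have h6 : π (k⁻¹ * s) = π s := by
        rw [map_mul, map_inv, MonoidHom.mem_ker.1 hk, inv_one, one_mul]
      rw [map_mul π t, map_mul π (k⁻¹ * s), h6] at h5
      exact h5.symm
    apply ha
    obtain ⟨k, hki, hkj⟩ := hy'.exists_third hι i j
    rw [← mul_one a, ← h.br i k j hki.symm hkj hij, commutatorElement_eq_one_iff_mul_comm,
      ← hπ i k hki.symm, ← hπ k j hkj]
    exact h2 _ _

theorem exists_hom {G : Type w} [Group G] {x : ι → ι → F → G} (h : SteinRel x)
    (hι : 3 ≤ Fintype.card ι)
    (hc : ∀ z ∈ Subgroup.closure (gens x), (∀ y ∈ Subgroup.closure (gens x), z * y = y * z) → z = 1) :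
    ∃ π : SpecialLinearGroup ι F →* G,
      (∀ i j (hij : i ≠ j) a, π (SpecialLinearGroup.transvection hij a) = x i j a) ∧
      π.range = Subgroup.closure (gens x) ∧
      ((∃ i j, i ≠ j ∧ ∃ a, x i j a ≠ 1) → π.ker ≤ Subgroup.center (SpecialLinearGroup ι F)) := by
  refine exists_hom_core h hι ?_
  intro Γ y hy' hygen p φ hφ hprange hpφ
  have hker := ker_le_center hy' hι hygen φ hφ
  rw [eq_bot_iff]
  intro z hz
  have h1 : p z = 1 := by
    refine hc _ (by rw [← hprange]; exact ⟨z, rfl⟩) ?_
    intro t ht
    rw [← hprange] at ht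
    obtain ⟨t', rfl⟩ := ht
    rw [← map_mul, ← map_mul, Subgroup.mem_center_iff.1 (hker hz) t']
  rw [MonoidHom.mem_ker] at hz
  rw [Subgroup.mem_bot]
  exact hpφ z h1 hz

end Cfsg.Agent.AGraded
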