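import Cfsg.Agent.AGraded.KTwo

/-!
# The Steinberg group of type `A` over a finite field of characteristic two, end

Bruhat decomposition; the kernel of the map to `SL` is trivial.
-/

set_option autoImplicit false
set_option linter.unusedSectionVars false
set_option linter.unusedVariables false

namespace Cfsg.Agent.AGraded

open scoped commutatorElement
open Matrix Cfsg.Agent.ChevalleyStructure.SteinbergBruhat

universe u v w

variable {F : Type v} [Field F] [CharP F 2] {Γ : Type w} [Group Γ]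

section gen

variable {ι : Type u} [Fintype ι] [DecidableEq ι]

namespace SteinRel

variable {x : ι → ι → F → Γ} (h : SteinRel x)

include h

/-- the torus acts on root elements by scalars -/
theorem tor_conj (hι : 3 ≤ Fintype.card ι) {g : Γ} (hg : g ∈ tor x) {k l : ι} (hkl : k ≠ l) :
    ∃ c : F, c ≠ 0 ∧ ∀ a, g * x k l a * g⁻¹ = x k l (c * a) := by
  rw [tor] at hg
  induction hg using Subgroup.closure_induction with
  | mem y hy =>
    obtain ⟨i, j, hij, u, hu, rfl⟩ := hy
    exact ⟨wt i j k l u, wt_ne_zero hu, fun a => h.t_conj hι hij hu hkl a⟩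
  | one => exact ⟨1, one_ne_zero, fun a => by simp⟩
  | mul y z _ _ hy hz =>
    obtain ⟨c, hc, h1⟩ := hy
    obtain ⟨d, hd, h2⟩ := hz
    refine ⟨c * d, mul_ne_zero hc hd, fun a => ?_⟩
    have e : y * z * x k l a * (y * z)⁻¹ = y * (z * x k l a * z⁻¹) * y⁻¹ := by group
    rw [e, h2, h1, mul_assoc]
  | inv y _ hy =>
    obtain ⟨c, hc, h1⟩ := hy
    refine ⟨c⁻¹, inv_ne_zero hc, fun a => ?_⟩
    have h2 := h1 (c⁻¹ * a)
    rw [mul_inv_cancel_left₀ hc] at h2
    rw [← h2]; group

/-- the Weyl elements act on the torus -/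
theorem w_perm_t (hι : 3 ≤ Fintype.card ι) {i j : ι} (hij : i ≠ j) {k l : ι} (hkl : k ≠ l) (a : F) :
    w x i j 1 * t x k l a * (w x i j 1)⁻¹ = t x (Equiv.swap i j k) (Equiv.swap i j l) a := by
  have e1 : w x i j 1 * t x k l a * (w x i j 1)⁻¹ =
      ((w x i j 1 * x k l a * (w x i j 1)⁻¹) * (w x i j 1 * x l k a⁻¹ * (w x i j 1)⁻¹) *
        (w x i j 1 * x k l a * (w x i j 1)⁻¹)) *
      ((w x i j 1 * x k l 1 * (w x i j 1)⁻¹) * (w x i j 1 * x l k 1⁻¹ * (w x i j 1)⁻¹) *
        (w x i j 1 * x k l 1 * (w x i j 1)⁻¹)) := by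
    rw [t, w, w, w]; group
  rw [e1, h.w_perm hι hij hkl, h.w_perm hι hij hkl.symm, h.w_perm hι hij hkl, h.w_perm hι hij hkl.symm]
  rfl

theorem w_perm_w (hι : 3 ≤ Fintype.card ι) {i j : ι} (hij : i ≠ j) {k l : ι} (hkl : k ≠ l) (a : F) :
    w x i j 1 * w x k l a * (w x i j 1)⁻¹ = w x (Equiv.swap i j k) (Equiv.swap i j l) a := by
  have e1 : w x i j 1 * w x k l a * (w x i j 1)⁻¹ =
      ((w x i j 1 * x k l a * (w x i j 1)⁻¹) * (w x i j 1 * x l k a⁻¹ * (w x i j 1)⁻¹) *
        (w x i j 1 * x k l a * (w x i j 1)⁻¹)) := by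
    rw [w, w]; group
  rw [e1, h.w_perm hι hij hkl, h.w_perm hι hij hkl.symm]
  rfl

end SteinRel

end gen

namespace SteinRel

variable {m : ℕ} {x : Fin (m + 1) → Fin (m + 1) → F → Γ} (h : SteinRel x)

/-- the roots -/
abbrev Root (m : ℕ) := {p : Fin (m + 1) × Fin (m + 1) // p.1 ≠ p.2}

omit [CharP F 2] in
/-- the action of permutations on roots -/
def tr (σ : Equiv.Perm (Fin (m + 1))) (p : Root m) : Root m :=
  ⟨(σ p.1.1, σ p.1.2), fun e => p.2 (σ.injective e)⟩

/-- the root datum -/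
def rd : RData Γ (Root m) (Fin m) where
  pos p := p.1.1 < p.1.2
  neg p := ⟨(p.1.2, p.1.1), p.2.symm⟩
  sim i := ⟨(i.castSucc, i.succ), (Fin.castSucc_lt_succ).ne⟩
  refl i p := tr (Equiv.swap i.castSucc i.succ) p
  X p := (h.rt p.1.1 p.1.2).range
  H := tor x
  n i := w x i.castSucc i.succ 1

include h

theorem mem_X {i j : Fin (m + 1)} (hij : i ≠ j) {y : Γ} : y ∈ (rd h).X ⟨(i, j), hij⟩ ↔ ∃ a, y = x i j a := by
  constructor
  · rintro ⟨a, rfl⟩
    exact ⟨Multiplicative.toAdd a, (h.rt_apply hij (Multiplicative.toAdd a)).symm ▸ rfl⟩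
  · rintro ⟨a, rfl⟩
    exact ⟨Multiplicative.ofAdd a, h.rt_apply hij a⟩

omit h in
theorem cs_ne (i : Fin m) : i.castSucc ≠ i.succ := (Fin.castSucc_lt_succ).ne

/-- the flag stabiliser -/
def flag (φ : Γ →* SpecialLinearGroup (Fin (m + 1)) F) : Subgroup Γ where
  carrier := {g | ∀ (c : Fin (m + 1)) (v : Fin (m + 1) → F),
    (∀ j, c < j → v j = 0) ↔ ∀ j, c < j → (φ g • v) j = 0}
  one_mem' := by
    intro c v
    rw [map_one, one_smul]
  mul_mem' := by
    intro a b ha hb c v
    rw [map_mul, mul_smul, hb c v, ha c (φ b • v)]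
  inv_mem' := by
    intro a ha c v
    have := ha c (φ a⁻¹ • v)
    rw [map_inv, smul_inv_smul] at this
    rw [map_inv]
    exact this.symm

variable {φ : Γ →* SpecialLinearGroup (Fin (m + 1)) F}
  (hφ : ∀ i j (hij : i ≠ j) a, φ (x i j a) = SpecialLinearGroup.transvection hij a)

theorem X_le_flag (hφ : ∀ i j (hij : i ≠ j) a, φ (x i j a) = SpecialLinearGroup.transvection hij a)
    {i j : Fin (m + 1)} (hij : i < j) (a : F) : x i j a ∈ flag φ := by
  intro c v
  constructor
  · intro hv k hk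
    rw [phi_x hφ hij.ne]
    split_ifs with hki
    · subst hki
      rw [hv k hk, hv j (hk.trans hij)]; simp
    · exact hv k hk
  · intro hv k hk
    have hj : ∀ k, c < k → k ≠ i → v k = 0 := by
      intro k hk hki
      have := hv k hk
      rwa [phi_x hφ hij.ne, if_neg hki] at this
    by_cases hki : k = i
    · subst hki
      have := hv k hk
      rw [phi_x hφ hij.ne, if_pos rfl, hj j (hk.trans hij) hij.ne'] at this
      simpa using this
    · exact hj k hk hki

theorem t_mem_flag (hφ : ∀ i j (hij : i ≠ j) a, φ (x i j a) = SpecialLinearGroup.transvection hij a)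
    {i j : Fin (m + 1)} (hij : i ≠ j) {u : F} (hu : u ≠ 0) : t x i j u ∈ flag φ := by
  intro c v
  have e : ∀ k, (φ (t x i j u) • v) k = 0 ↔ v k = 0 := by
    intro k
    rw [phi_t hφ hij hu]
    split_ifs with h1 h2
    · subst h1
      simp [hu]
    · subst h2
      simp [hu]
    · rfl
  simp only [e]

theorem B_le_flag (hφ : ∀ i j (hij : i ≠ j) a, φ (x i j a) = SpecialLinearGroup.transvection hij a) :
    (rd h).B ≤ flag φ := by
  refine sup_le (iSup₂_le ?_) ?_
  · rintro ⟨⟨i, j⟩, hij⟩ hp y hy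
    obtain ⟨a, rfl⟩ := (h.mem_X hij).1 hy
    exact h.X_le_flag hφ hp a
  · refine (Subgroup.closure_le _).2 ?_
    rintro _ ⟨i, j, hij, u, hu, rfl⟩
    exact h.t_mem_flag hφ hij hu

theorem map_X_not_le (hφ : ∀ i j (hij : i ≠ j) a, φ (x i j a) = SpecialLinearGroup.transvection hij a)
    (r : Root m) (hr : ¬ (rd h).pos r) : ¬ ((rd h).X r).map φ ≤ (rd h).B.map φ := by
  obtain ⟨⟨k, l⟩, hkl⟩ := r
  have hlk : l < k := lt_of_le_of_ne (not_lt.1 hr) (Ne.symm hkl)
  intro hle
  obtain ⟨b, hb, hb'⟩ := hle (Subgroup.mem_map_of_mem φ ((h.mem_X hkl).2 ⟨1, rfl⟩))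
  have h1 := (h.B_le_flag hφ hb) l (Pi.single l 1)
  have h2 : ∀ j, l < j → (Pi.single l (1 : F) : Fin (m + 1) → F) j = 0 := by
    intro j hj
    rw [Pi.single_eq_of_ne hj.ne']
  have h3 := h1.1 h2 k hlk
  rw [hb', phi_x hφ hkl, if_pos rfl, Pi.single_eq_same, Pi.single_eq_of_ne hkl] at h3
  simp at h3

theorem nn_eq (i : Fin m) : (rd h).n i * (rd h).n i = 1 := h.ww (cs_ne i) 1

theorem swap_lt {i : Fin m} {a b : Fin (m + 1)} (hab : a < b) (hne : ¬ (a = i.castSucc ∧ b = i.succ)) :
    Equiv.swap i.castSucc i.succ a < Equiv.swap i.castSucc i.succ b := by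
  simp only [Equiv.swap_apply_def]
  split_ifs with h1 h2 h3 h4 h5 h6 h7 h8 <;>
    simp only [Fin.lt_def, Fin.ext_iff, Fin.val_castSucc, Fin.val_succ] at * <;> omega

theorem axioms_rd (hm : 2 ≤ m)
    (hφ : ∀ i j (hij : i ≠ j) a, φ (x i j a) = SpecialLinearGroup.transvection hij a) : (rd h).Axioms where
  refl_refl := by
    rintro i ⟨⟨a, b⟩, hab⟩
    apply Subtype.ext
    simp [rd, tr]
  refl_sim := by
    intro i
    apply Subtype.ext
    simp [rd, tr]
  refl_pos := by
    rintro i ⟨⟨a, b⟩, hab⟩ hp hne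
    refine h.swap_lt hp ?_
    rintro ⟨rfl, rfl⟩
    exact hne rfl
  refl_neg := by
    rintro i ⟨⟨a, b⟩, hab⟩
    rfl
  pos_sim := fun i => Fin.castSucc_lt_succ
  pos_neg := by
    rintro ⟨⟨a, b⟩, hab⟩
    change b < a ↔ ¬ a < b
    have : a ≠ b := hab
    rw [not_lt]
    exact ⟨le_of_lt, fun h1 => lt_of_le_of_ne h1 this.symm⟩
  conjH := by
    rintro g hg ⟨⟨k, l⟩, hkl⟩ y hy
    obtain ⟨a, rfl⟩ := (h.mem_X hkl).1 hy
    have hι : 3 ≤ Fintype.card (Fin (m + 1)) := by rw [Fintype.card_fin]; omega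
    obtain ⟨c, -, hc⟩ := h.tor_conj hι hg hkl
    exact (h.mem_X hkl).2 ⟨_, hc a⟩
  conjn := by
    rintro i ⟨⟨k, l⟩, hkl⟩ y hy
    obtain ⟨a, rfl⟩ := (h.mem_X hkl).1 hy
    have hι : 3 ≤ Fintype.card (Fin (m + 1)) := by rw [Fintype.card_fin]; omega
    exact (h.mem_X _).2 ⟨a, h.w_perm hι (cs_ne i) hkl a⟩
  conjnH := by
    intro i g hg
    have hι : 3 ≤ Fintype.card (Fin (m + 1)) := by rw [Fintype.card_fin]; omega
    have : tor x ≤ (tor x).comap (MulAut.conj ((rd h).n i)).toMonoidHom := by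
      refine (Subgroup.closure_le _).2 ?_
      rintro _ ⟨k, l, hkl, u, hu, rfl⟩
      change w x i.castSucc i.succ 1 * t x k l u * (w x i.castSucc i.succ 1)⁻¹ ∈ tor x
      rw [h.w_perm_t hι (cs_ne i) hkl]
      exact t_mem_tor (fun e => hkl ((Equiv.swap _ _).injective e)) hu
    exact this hg
  nn := by
    intro i
    rw [h.nn_eq]
    exact Subgroup.one_mem _
  nmem := by
    intro i
    have h1 : x i.castSucc i.succ 1 ∈ (rd h).X ((rd h).sim i) := (h.mem_X (cs_ne i)).2 ⟨1, rfl⟩
    have h2 : x i.succ i.castSucc 1⁻¹ ∈ (rd h).X ((rd h).neg ((rd h).sim i)) :=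
      (h.mem_X (cs_ne i).symm).2 ⟨1⁻¹, rfl⟩
    refine (le_sup_left : _ ≤ _ ⊔ (rd h).H) ?_
    exact Subgroup.mul_mem _ (Subgroup.mul_mem_sup h1 h2) (Subgroup.mem_sup_left h1)
  Xneg := by
    intro i y hy
    obtain ⟨a, rfl⟩ := (h.mem_X (cs_ne i).symm).1 hy
    by_cases ha : a = 0
    · left
      rw [ha, h.zero (cs_ne i).symm]
    · right
      have h1 : x i.castSucc i.succ a⁻¹ ∈ (rd h).X ((rd h).sim i) := (h.mem_X (cs_ne i)).2 ⟨a⁻¹, rfl⟩
      have hι : 3 ≤ Fintype.card (Fin (m + 1)) := by rw [Fintype.card_fin]; omega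
      refine ⟨_, h1, w x i.castSucc i.succ 1 * t x i.castSucc i.succ a⁻¹ * (w x i.castSucc i.succ 1)⁻¹, ?_, _, h1, ?_⟩
      · rw [h.w_perm_t hι (cs_ne i) (cs_ne i)]
        exact t_mem_tor (fun e => cs_ne i ((Equiv.swap _ _).injective e)) (inv_ne_zero ha)
      · change x i.succ i.castSucc a = x i.castSucc i.succ a⁻¹ * (w x i.castSucc i.succ 1 * _) * x i.castSucc i.succ a⁻¹
        have e1 : w x i.castSucc i.succ (1 : F) *
            (w x i.castSucc i.succ 1 * t x i.castSucc i.succ a⁻¹ * (w x i.castSucc i.succ 1)⁻¹) =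
            w x i.castSucc i.succ a⁻¹ := by
          have e2 : w x i.castSucc i.succ (1 : F) *
            (w x i.castSucc i.succ 1 * t x i.castSucc i.succ a⁻¹ * (w x i.castSucc i.succ 1)⁻¹) =
            (w x i.castSucc i.succ (1 : F) * w x i.castSucc i.succ 1) * w x i.castSucc i.succ a⁻¹ *
              (w x i.castSucc i.succ (1 : F) * (w x i.castSucc i.succ 1)⁻¹) := by
            rw [t]; group
          rw [e2, h.ww (cs_ne i), mul_inv_cancel, one_mul, mul_one]
        rw [e1, w, inv_inv]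
        calc x i.succ i.castSucc a = 1 * x i.succ i.castSucc a * 1 := by group
          _ = (x i.castSucc i.succ a⁻¹ * x i.castSucc i.succ a⁻¹) * x i.succ i.castSucc a *
              (x i.castSucc i.succ a⁻¹ * x i.castSucc i.succ a⁻¹) := by rw [h.xx (cs_ne i)]
          _ = _ := by group
  Unorm := by
    intro i y hy u hu
    obtain ⟨a, rfl⟩ := (h.mem_X (cs_ne i)).1 hy
    have hle : (rd h).Ui i ≤ ((rd h).Ui i).comap (MulAut.conj (x i.castSucc i.succ a)).toMonoidHom := by
      have hmem : ∀ (k l : Fin (m + 1)) (hkl : k < l) (_ : ¬ (k = i.castSucc ∧ l = i.succ)) (b : F),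
          x k l b ∈ (rd h).Ui i := by
        intro k l hkl hne b
        have : (rd h).X ⟨(k, l), hkl.ne⟩ ≤ (rd h).Ui i := by
          refine le_iSup₂_of_le (⟨(k, l), hkl.ne⟩ : Root m) ⟨hkl, ?_⟩ le_rfl
          intro e
          have := congrArg Subtype.val e
          simp only [rd, Prod.mk.injEq] at this
          exact hne this
        exact this ((h.mem_X hkl.ne).2 ⟨b, rfl⟩)
      refine iSup₂_le ?_
      rintro ⟨⟨k, l⟩, hkl⟩ ⟨hp, hne⟩ z hz
      obtain ⟨b, rfl⟩ := (h.mem_X hkl).1 hz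
      have hp' : k < l := hp
      have hne' : ¬ (k = i.castSucc ∧ l = i.succ) := by
        rintro ⟨rfl, rfl⟩
        exact hne rfl
      change x i.castSucc i.succ a * x k l b * (x i.castSucc i.succ a)⁻¹ ∈ (rd h).Ui i
      by_cases hk : k = i.succ
      · subst hk
        have hil : i.castSucc < l := (Fin.castSucc_lt_succ).trans hp'
        rw [h.cl (cs_ne i) hkl hil.ne]
        refine Subgroup.mul_mem _ (hmem _ _ hil ?_ _) (hmem _ _ hp' hne' _)
        rintro ⟨-, rfl⟩
        exact lt_irrefl _ hp'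
      by_cases hl : l = i.castSucc
      · subst hl
        have hki : k < i.succ := hp'.trans (Fin.castSucc_lt_succ)
        rw [h.cr hkl (cs_ne i) hki.ne]
        refine Subgroup.mul_mem _ (hmem _ _ hp' hne' _) (hmem _ _ hki ?_ _)
        rintro ⟨rfl, -⟩
        exact lt_irrefl _ hp'
      rw [h.cc (cs_ne i) hkl (Ne.symm hk) (Ne.symm hl)]
      exact hmem _ _ hp' hne' _
    exact hle hu
  notle := by
    intro r hr hle
    exact h.map_X_not_le hφ r hr (Subgroup.map_mono hle)

theorem gen_rd (hm : 2 ≤ m) (hgen : Subgroup.closure (gens x) = ⊤) :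
    (rd h).B ⊔ Subgroup.closure (Set.range (rd h).n) = ⊤ := by
  have hι : 3 ≤ Fintype.card (Fin (m + 1)) := by rw [Fintype.card_fin]; omega
  set N := (rd h).B ⊔ Subgroup.closure (Set.range (rd h).n) with hN
  have hn : ∀ i : Fin m, w x i.castSucc i.succ 1 ∈ N := fun i =>
    (le_sup_right : _ ≤ N) (Subgroup.subset_closure ⟨i, rfl⟩)
  have hw : ∀ d : ℕ, ∀ k l : Fin (m + 1), (l : ℕ) = k + d + 1 → w x k l 1 ∈ N := by
    intro d
    induction d with
    | zero =>
      intro k l hkl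
      have hk : (k : ℕ) < m := by omega
      have := hn ⟨k, hk⟩
      have e1 : (⟨k, hk⟩ : Fin m).castSucc = k := Fin.ext rfl
      have e2 : (⟨k, hk⟩ : Fin m).succ = l := Fin.ext (by simp [hkl])
      rwa [e1, e2] at this
    | succ d ih =>
      intro k l hkl
      have hl : (l : ℕ) - 1 < m := by omega
      have h1 := ih k (⟨l - 1, hl⟩ : Fin m).castSucc (by simp; omega)
      have h2 := hn ⟨l - 1, hl⟩
      have e2 : (⟨l - 1, hl⟩ : Fin m).succ = l := Fin.ext (by simp; omega)
      have hkne : k ≠ (⟨l - 1, hl⟩ : Fin m).castSucc := by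
        intro e
        have := congrArg Fin.val e
        simp at this
        omega
      have hkl' : k ≠ l := by
        intro e
        rw [e] at hkl
        omega
      have h3 := h.w_perm_w hι (cs_ne ⟨l - 1, hl⟩) hkne 1
      rw [Equiv.swap_apply_left, e2, Equiv.swap_apply_of_ne_of_ne hkne hkl'] at h3
      rw [← h3]
      rw [e2] at h2
      exact N.mul_mem (N.mul_mem h2 h1) (N.inv_mem h2)
  have hpos : ∀ k l : Fin (m + 1), k < l → ∀ a, x k l a ∈ N := by
    intro k l hkl a
    have h1 : (rd h).X ⟨(k, l), hkl.ne⟩ ≤ (rd h).U := le_iSup₂_of_le (⟨(k, l), hkl.ne⟩ : Root m) hkl le_rfl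
    exact (le_sup_left : _ ≤ N) ((le_sup_left : (rd h).U ≤ (rd h).B) (h1 ((h.mem_X hkl.ne).2 ⟨a, rfl⟩)))
  rw [eq_top_iff, ← hgen, Subgroup.closure_le]
  rintro _ ⟨k, l, hkl, a, rfl⟩
  rcases lt_or_gt_of_ne hkl with h1 | h1
  · exact hpos k l h1 a
  · have h2 := hw ((k : ℕ) - l - 1) l k (by have := Fin.lt_def.1 h1; omega)
    have h3 := h.w_perm hι h1.ne h1.ne a
    rw [Equiv.swap_apply_left, Equiv.swap_apply_right] at h3
    rw [← h3]
    exact N.mul_mem (N.mul_mem h2 (hpos l k h1 a)) (N.inv_mem h2)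

/-! ### the unipotent group -/

omit h in
/-- the terms of the central series -/
def Wk (x : Fin (m + 1) → Fin (m + 1) → F → Γ) (k : ℕ) : Subgroup Γ :=
  Subgroup.closure {g | ∃ i j : Fin (m + 1), k ≤ i ∧ i < j ∧ ∃ a, g = x i j a}

theorem U_le : (rd h).U ≤ Wk x 0 := by
  refine iSup₂_le ?_
  rintro ⟨⟨i, j⟩, hij⟩ hp y hy
  obtain ⟨a, rfl⟩ := (h.mem_X hij).1 hy
  exact Subgroup.subset_closure ⟨i, j, Nat.zero_le _, hp, a, rfl⟩

omit h in
theorem Wk_bot {k : ℕ} (hk : m ≤ k) : Wk x k = ⊥ := by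
  rw [Wk, Subgroup.closure_eq_bot_iff]
  rintro _ ⟨i, j, hi, hij, a, rfl⟩
  have := Fin.lt_def.1 hij
  have := j.2
  omega

theorem Wk_dec {k : Fin (m + 1)} {g : Γ} (hg : g ∈ Wk x k) :
    ∃ r ∈ h.R k, ∃ u ∈ Wk x (k + 1), g = r * u := by
  have hnorm : ∀ u ∈ Wk x (k + 1), ∀ r ∈ h.R k, u * r * u⁻¹ ∈ h.R k := by
    intro u hu
    have hcj : cj u (h.R k) = h.R k := by
      rw [Wk] at hu
      induction hu using Subgroup.closure_induction with
      | mem y hy =>
        obtain ⟨i, j, hi, hij, a, rfl⟩ := hy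
        refine h.cj_x_R hij.ne ?_ a
        rintro rfl
        have := Fin.lt_def.1 hij
        omega
      | one => exact cj_one _
      | mul y z _ _ hy hz => rw [cj_mul, hz, hy]
      | inv y _ hy => rw [cj_eq_iff, inv_inv, hy]
    intro r hr
    rw [← hcj]
    exact mem_cj hr
  have hS : ∀ g ∈ Wk x k, ∀ z, (∃ r ∈ h.R k, ∃ u ∈ Wk x (k + 1), z = r * u) →
      ∃ r ∈ h.R k, ∃ u ∈ Wk x (k + 1), g * z = r * u := by
    intro g hg
    have hgenr : ∀ y ∈ h.R k, ∀ z, (∃ r ∈ h.R k, ∃ u ∈ Wk x (k + 1), z = r * u) →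
        ∃ r ∈ h.R k, ∃ u ∈ Wk x (k + 1), y * z = r * u := by
      rintro y hy _ ⟨r, hr, u, hu, rfl⟩
      exact ⟨y * r, Subgroup.mul_mem _ hy hr, u, hu, by group⟩
    have hgenu : ∀ y ∈ Wk x (k + 1), ∀ z, (∃ r ∈ h.R k, ∃ u ∈ Wk x (k + 1), z = r * u) →
        ∃ r ∈ h.R k, ∃ u ∈ Wk x (k + 1), y * z = r * u := by
      rintro y hy _ ⟨r, hr, u, hu, rfl⟩
      exact ⟨y * r * y⁻¹, hnorm y hy r hr, y * u, Subgroup.mul_mem _ hy hu, by group⟩
    rw [Wk] at hg
    induction hg using Subgroup.closure_induction'' with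
    | mem y hy =>
      obtain ⟨i, j, hi, hij, a, rfl⟩ := hy
      rcases Nat.eq_or_lt_of_le hi with h1 | h1
      · have : k = i := Fin.ext h1
        subst this
        exact hgenr _ (h.mem_R hij.ne a)
      · exact hgenu _ (Subgroup.subset_closure ⟨i, j, h1, hij, a, rfl⟩)
    | inv_mem y hy =>
      obtain ⟨i, j, hi, hij, a, rfl⟩ := hy
      rcases Nat.eq_or_lt_of_le hi with h1 | h1
      · have : k = i := Fin.ext h1
        subst this
        exact hgenr _ (Subgroup.inv_mem _ (h.mem_R hij.ne a))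
      · exact hgenu _ (Subgroup.inv_mem _ (Subgroup.subset_closure ⟨i, j, h1, hij, a, rfl⟩))
    | one => intro z hz; rwa [one_mul]
    | mul y z _ _ hy hz => intro z' hz'; rw [mul_assoc]; exact hy _ (hz _ hz')
  have := hS g hg 1 ⟨1, Subgroup.one_mem _, 1, Subgroup.one_mem _, by group⟩
  rwa [mul_one] at this

/-- an element of `U` which is diagonal is trivial -/
theorem U_diag (hφ : ∀ i j (hij : i ≠ j) a, φ (x i j a) = SpecialLinearGroup.transvection hij a)
    {g : Γ} (hg : g ∈ (rd h).U) (hd : ∀ (y : Fin (m + 1) → F) k, y k = 0 → (φ g • y) k = 0) : g = 1 := by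
  have hfix : ∀ k : Fin (m + 1), ∀ u ∈ Wk x (k + 1), ∀ y : Fin (m + 1) → F, (φ u • y) k = y k := by
    intro k u hu
    rw [Wk] at hu
    induction hu using Subgroup.closure_induction with
    | mem z hz =>
      obtain ⟨i, j, hi, hij, a, rfl⟩ := hz
      intro y
      rw [phi_x hφ hij.ne, if_neg]
      rintro rfl
      omega
    | one => intro y; rw [map_one, one_smul]
    | mul a b _ _ ha hb => intro y; rw [map_mul, mul_smul, ha, hb]
    | inv a _ ha =>
      intro y
      have := ha (φ a⁻¹ • y)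
      rw [map_inv, smul_inv_smul] at this
      rw [map_inv, this]
  have hstep : ∀ k : ℕ, k ≤ m → g ∈ Wk x k := by
    intro k
    induction k with
    | zero => intro _; exact h.U_le hg
    | succ k ih =>
      intro hk
      have h1 := ih (by omega)
      obtain ⟨r, hr, u, hu, rfl⟩ := h.Wk_dec (k := ⟨k, by omega⟩) h1
      obtain ⟨c, rfl⟩ := h.exists_of_mem_R hr
      have h2 : h.D ⟨k, by omega⟩ c = h.D ⟨k, by omega⟩ 0 := by
        refine D_ext h fun j hj => ?_
        have h3 := hd ((φ u)⁻¹ • (Pi.single j (1 : F) : Fin (m + 1) → F)) ⟨k, by omega⟩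
        have h4 := hfix ⟨k, by omega⟩ u hu ((φ u)⁻¹ • (Pi.single j (1 : F) : Fin (m + 1) → F))
        rw [smul_inv_smul, Pi.single_eq_of_ne hj] at h4
        have h5 := h3 h4.symm
        rw [map_mul, mul_smul, smul_inv_smul, map_D h φ hφ, Pi.add_apply, Pi.single_eq_of_ne hj, zero_add,
          Pi.smul_apply, Pi.single_eq_same, smul_eq_mul, mul_one,
          Finset.sum_eq_single_of_mem j (Finset.mem_erase.2 ⟨Ne.symm hj, Finset.mem_univ _⟩), Pi.single_eq_same,
          mul_one] at h5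
        · rw [h5]; rfl
        · intro b _ hb
          rw [Pi.single_eq_of_ne hb, mul_zero]
      rw [h2, h.D_zero, one_mul]
      exact hu
  have h6 := hstep m le_rfl
  rw [Wk_bot le_rfl] at h6
  exact Subgroup.mem_bot.1 h6

/-- `K_2(F) = 0`, `Fin` version -/
theorem ker_eq_bot_fin [Finite F] (hm : 2 ≤ m) (hgen : Subgroup.closure (gens x) = ⊤)
    (hφ : ∀ i j (hij : i ≠ j) a, φ (x i j a) = SpecialLinearGroup.transvection hij a) : φ.ker = ⊥ := by
  have hι : 3 ≤ Fintype.card (Fin (m + 1)) := by rw [Fintype.card_fin]; omega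
  have hA := h.axioms_rd hm hφ
  have h1 := hA.ker_le_B (h.gen_rd hm hgen) φ (h.map_X_not_le hφ)
  have hker := ker_le_center h hι hgen φ hφ
  rw [eq_bot_iff]
  intro g hg
  obtain ⟨u, hu, t', ht, rfl⟩ := hA.mem_B_iff (h1 hg)
  have ht' : t' ∈ tor x := ht
  have hdiag : ∀ s ∈ tor x, ∀ (y : Fin (m + 1) → F) k, y k = 0 → (φ s • y) k = 0 := by
    intro s hs
    rw [tor] at hs
    have key : ∀ (y : Fin (m + 1) → F) k, (φ s • y) k = 0 ↔ y k = 0 := by
      induction hs using Subgroup.closure_induction with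
      | mem z hz =>
        obtain ⟨i, j, hij, a, ha, rfl⟩ := hz
        intro y k
        rw [phi_t hφ hij ha]
        split_ifs with h1 h2
        · subst h1
          simp [ha]
        · subst h2
          simp [ha]
        · rfl
      | one => intro y k; rw [map_one, one_smul]
      | mul a b _ _ ha hb => intro y k; rw [map_mul, mul_smul, ha, hb]
      | inv a _ ha =>
        intro y k
        have := ha (φ a⁻¹ • y) k
        rw [map_inv, smul_inv_smul] at this
        rw [map_inv, this]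
    intro y k hk
    exact (key y k).2 hk
  have hu1 : u = 1 := by
    refine h.U_diag hφ hu ?_
    have e : φ u = φ t'⁻¹ := by
      rw [MonoidHom.mem_ker, map_mul] at hg
      rw [map_inv]
      exact eq_inv_of_mul_eq_one_left hg
    rw [e]
    exact hdiag _ (Subgroup.inv_mem _ ht')
  subst hu1
  rw [one_mul] at hg ⊢
  rw [Subgroup.mem_bot]
  exact h.tor_inj hι hφ hker ht' hg

end SteinRel

section gen2

variable {ι : Type u} [Fintype ι] [DecidableEq ι]

/-- **`K_2(F) = 0` in type `A`**: a group generated by elements with the Steinberg relations over a finite field of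
characteristic two which maps to `SL` is isomorphic to `SL`. -/
theorem SteinRel.ker_eq_bot [Finite F] {x : ι → ι → F → Γ} (h : SteinRel x) (hι : 3 ≤ Fintype.card ι)
    (hgen : Subgroup.closure (gens x) = ⊤) {φ : Γ →* SpecialLinearGroup ι F}
    (hφ : ∀ i j (hij : i ≠ j) a, φ (x i j a) = SpecialLinearGroup.transvection hij a) : φ.ker = ⊥ := by
  obtain ⟨m, hm⟩ : ∃ m, Fintype.card ι = m + 1 := ⟨Fintype.card ι - 1, by omega⟩
  let e : Fin (m + 1) ≃ ι := (Fintype.equivFinOfCardEq hm).symm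
  let x' : Fin (m + 1) → Fin (m + 1) → F → Γ := fun i j a => x (e i) (e j) a
  have hx' : SteinRel x' := by
    refine ⟨?_, ?_, ?_⟩
    · intro i j hij a b
      exact h.add _ _ (fun e' => hij (e.injective e')) a b
    · intro i j k l hij hkl hjk hil a b
      exact h.comm _ _ _ _ (fun e' => hij (e.injective e')) (fun e' => hkl (e.injective e'))
        (fun e' => hjk (e.injective e')) (fun e' => hil (e.injective e')) a b
    · intro i j k hij hjk hik a b
      exact h.br _ _ _ (fun e' => hij (e.injective e')) (fun e' => hjk (e.injective e'))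
        (fun e' => hik (e.injective e')) a b
  let ρ : SpecialLinearGroup ι F →* SpecialLinearGroup (Fin (m + 1)) F :=
    { toFun := fun s => ⟨(s : Matrix ι ι F).submatrix e e, by
        rw [Matrix.det_submatrix_equiv_self]; exact s.2⟩
      map_one' := by
        apply Subtype.ext
        exact Matrix.submatrix_one_equiv e
      map_mul' := by
        intro s s'
        apply Subtype.ext
        exact (Matrix.submatrix_mul_equiv (s : Matrix ι ι F) (s' : Matrix ι ι F) e e e).symm }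
  have hρ : ∀ s, (ρ s : Matrix (Fin (m + 1)) (Fin (m + 1)) F) = (s : Matrix ι ι F).submatrix e e := fun s => rfl
  have hρinj : Function.Injective ρ := by
    intro s s' hs
    apply Subtype.ext
    have h1 := congrArg Subtype.val hs
    have h2 : (s : Matrix ι ι F).submatrix e e = (s' : Matrix ι ι F).submatrix e e := h1
    ext i j
    have := congrFun (congrFun h2 (e.symm i)) (e.symm j)
    simpa using this
  have hgen' : Subgroup.closure (gens x') = ⊤ := by
    rw [eq_top_iff, ← hgen, Subgroup.closure_le]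
    rintro _ ⟨i, j, hij, a, rfl⟩
    refine Subgroup.subset_closure ⟨e.symm i, e.symm j, fun e' => hij (e.symm.injective e'), a, ?_⟩
    simp [x']
  have hφ' : ∀ i j (hij : i ≠ j) a, (ρ.comp φ) (x' i j a) = SpecialLinearGroup.transvection hij a := by
    intro i j hij a
    rw [MonoidHom.comp_apply]
    change ρ (φ (x (e i) (e j) a)) = _
    rw [hφ _ _ (fun e' => hij (e.injective e'))]
    apply Subtype.ext
    rw [hρ]
    change (Matrix.transvection (e i) (e j) a).submatrix e e = Matrix.transvection i j a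
    ext k l
    simp [Matrix.transvection, Matrix.one_apply, Matrix.single_apply]
  have h3 := hx'.ker_eq_bot_fin (by omega) hgen' hφ'
  rw [eq_bot_iff]
  intro g hg
  rw [← h3]
  rw [MonoidHom.mem_ker] at hg ⊢
  rw [MonoidHom.comp_apply, hg, map_one]

end gen2

end Cfsg.Agent.AGraded
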