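import Cfsg.Agent.AGraded.Hom
import Cfsg.Agent.AGraded.KTwoB

/-!
# A homomorphism `SL ι F → G` from the Steinberg relations, `F` finite of characteristic two

No hypothesis on the centre is needed (`K_2(F) = 0`).
-/

set_option autoImplicit false

namespace Cfsg.Agent.AGraded

open Matrix

universe u v w

variable {ι : Type u} [Fintype ι] [DecidableEq ι] {F : Type v} [Field F]

theorem exists_hom_finite [Finite F] [CharP F 2] {G : Type w} [Group G] {x : ι → ι → F → G} (h : SteinRel x)
    (hι : 3 ≤ Fintype.card ι) :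
    ∃ π : SpecialLinearGroup ι F →* G,
      (∀ i j (hij : i ≠ j) a, π (SpecialLinearGroup.transvection hij a) = x i j a) ∧
      π.range = Subgroup.closure (gens x) ∧
      ((∃ i j, i ≠ j ∧ ∃ a, x i j a ≠ 1) → π.ker ≤ Subgroup.center (SpecialLinearGroup ι F)) :=
  exists_hom_core h hι fun Γ _ hy hygen _ _ hφ _ _ => SteinRel.ker_eq_bot (Γ := Γ) hy hι hygen hφ

end Cfsg.Agent.AGraded
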