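import Cfsg.Agent.AGraded.Steinberg
import Cfsg.Agent.ChevalleyStructure.SteinbergBruhat

/-!
# The Steinberg group of type `A` over a finite field of characteristic two

A group generated by elements with the Steinberg relations of type `A_n`, `n ≥ 2`, over a finite field `F` of
characteristic two which maps onto `SL` is isomorphic to `SL` (`K_2(F) = 0`).
-/

set_option autoImplicit false
set_option linter.unusedSectionVars false
set_option linter.unusedVariables false

namespace Cfsg.Agent.AGraded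

open scoped commutatorElement
open Matrix

universe u v w

variable {ι : Type u} [Fintype ι] [DecidableEq ι] {F : Type v} [Field F] [CharP F 2] {Γ : Type w} [Group Γ]

namespace SteinRel

variable {x : ι → ι → F → Γ} (h : SteinRel x)

include h

theorem xx {i j : ι} (hij : i ≠ j) (a : F) : x i j a * x i j a = 1 := by
  rw [← h.add i j hij, CharTwo.add_self_eq_zero, h.zero hij]

theorem xinv {i j : ι} (hij : i ≠ j) (a : F) : (x i j a)⁻¹ = x i j a := inv_eq_of_mul_eq_one_left (h.xx hij a)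

omit h in
/-- the element `w_{ij}(u)` -/
def w (x : ι → ι → F → Γ) (i j : ι) (u : F) : Γ := x i j u * x j i u⁻¹ * x i j u

theorem ww {i j : ι} (hij : i ≠ j) (u : F) : w x i j u * w x i j u = 1 := by
  rw [w]
  calc x i j u * x j i u⁻¹ * x i j u * (x i j u * x j i u⁻¹ * x i j u) =
      x i j u * x j i u⁻¹ * (x i j u * x i j u) * x j i u⁻¹ * x i j u := by group
    _ = x i j u * (x j i u⁻¹ * x j i u⁻¹) * x i j u := by rw [h.xx hij]; group
    _ = 1 := by rw [h.xx hij.symm, mul_one, h.xx hij]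

theorem winv {i j : ι} (hij : i ≠ j) (u : F) : (w x i j u)⁻¹ = w x i j u :=
  inv_eq_of_mul_eq_one_left (h.ww hij u)

theorem cl {i j k : ι} (hij : i ≠ j) (hjk : j ≠ k) (hik : i ≠ k) (a b : F) :
    x i j a * x j k b * (x i j a)⁻¹ = x i k (a * b) * x j k b := h.conj_left hij hjk hik a b

theorem cr {i j k : ι} (hij : i ≠ j) (hjk : j ≠ k) (hik : i ≠ k) (a b : F) :
    x j k b * x i j a * (x j k b)⁻¹ = x i j a * x i k (a * b) := by
  rw [h.conj_right hij hjk hik, CharTwo.neg_eq]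

theorem cc {i j k l : ι} (hij : i ≠ j) (hkl : k ≠ l) (hjk : j ≠ k) (hil : i ≠ l) (a b : F) :
    x i j a * x k l b * (x i j a)⁻¹ = x k l b := by
  rw [h.comm i j k l hij hkl hjk hil, mul_inv_cancel_right]

omit h in
theorem conj_mul3 (a b c y : Γ) : (a * b * c) * y * (a * b * c)⁻¹ = a * (b * (c * y * c⁻¹) * b⁻¹) * a⁻¹ := by
  group

omit h in
theorem conj_prod (a y z : Γ) : a * (y * z) * a⁻¹ = (a * y * a⁻¹) * (a * z * a⁻¹) := by
  group

/-- `w_{ij}(u)` acts on `x_{ik}` -/
theorem w1 {i j k : ι} (hij : i ≠ j) (hjk : j ≠ k) (hik : i ≠ k) {u : F} (hu : u ≠ 0) (a : F) :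
    w x i j u * x i k a * (w x i j u)⁻¹ = x j k (u⁻¹ * a) := by
  rw [w, conj_mul3, h.cc hij hik hij.symm hik, h.cl hij.symm hik hjk, conj_prod, h.cl hij hjk hik,
    h.cc hij hik hij.symm hik]
  have e : u * (u⁻¹ * a) = a := by field_simp
  rw [e, h.comm i k j k hik hjk (Ne.symm hjk) hik, mul_assoc, h.xx hik, mul_one]

theorem w2 {i j k : ι} (hij : i ≠ j) (hjk : j ≠ k) (hik : i ≠ k) {u : F} (hu : u ≠ 0) (a : F) :
    w x i j u * x j k a * (w x i j u)⁻¹ = x i k (u * a) := by
  have h1 := h.w1 hij hjk hik hu (u * a)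
  have e : u⁻¹ * (u * a) = a := by field_simp
  rw [e, h.winv hij] at h1
  rw [h.winv hij, ← h1]
  calc w x i j u * (w x i j u * x i k (u * a) * w x i j u) * w x i j u =
      (w x i j u * w x i j u) * x i k (u * a) * (w x i j u * w x i j u) := by group
    _ = x i k (u * a) := by rw [h.ww hij]; group

theorem w3 {i j k : ι} (hij : i ≠ j) (hjk : j ≠ k) (hik : i ≠ k) {u : F} (hu : u ≠ 0) (a : F) :
    w x i j u * x k i a * (w x i j u)⁻¹ = x k j (a * u) := by
  have e : a * u * u⁻¹ = a := by field_simp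
  have s1 := h.cr hik.symm hij hjk.symm a u
  have s2 : x j i u⁻¹ * (x k i a * x k j (a * u)) * (x j i u⁻¹)⁻¹ = x k i a * (x k j (a * u) * x k i a) := by
    rw [conj_prod, h.cc hij.symm hik.symm hik hij.symm, h.cr hjk.symm hij.symm hik.symm, e]
  have s3 : x i j u * (x k i a * (x k j (a * u) * x k i a)) * (x i j u)⁻¹ =
      (x k i a * x k j (a * u)) * (x k j (a * u) * (x k i a * x k j (a * u))) := by
    rw [conj_prod, conj_prod, s1, h.cc hij hjk.symm hjk hij]
  rw [w, conj_mul3, s1, s2, s3]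
  have e1 : x k i a * x k j (a * u) * (x k j (a * u) * (x k i a * x k j (a * u))) =
      x k i a * (x k j (a * u) * x k j (a * u)) * x k i a * x k j (a * u) := by group
  rw [e1, h.xx hjk.symm, mul_one, h.xx hik.symm, one_mul]

theorem w4 {i j k : ι} (hij : i ≠ j) (hjk : j ≠ k) (hik : i ≠ k) {u : F} (hu : u ≠ 0) (a : F) :
    w x i j u * x k j a * (w x i j u)⁻¹ = x k i (a * u⁻¹) := by
  have h1 := h.w3 hij hjk hik hu (a * u⁻¹)
  have e : a * u⁻¹ * u = a := by field_simp
  rw [e, h.winv hij] at h1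
  rw [h.winv hij, ← h1]
  calc w x i j u * (w x i j u * x k i (a * u⁻¹) * w x i j u) * w x i j u =
      (w x i j u * w x i j u) * x k i (a * u⁻¹) * (w x i j u * w x i j u) := by group
    _ = x k i (a * u⁻¹) := by rw [h.ww hij]; group

theorem w0 {i j k l : ι} (hij : i ≠ j) (hkl : k ≠ l) (hki : k ≠ i) (hkj : k ≠ j) (hli : l ≠ i) (hlj : l ≠ j)
    (u a : F) : w x i j u * x k l a * (w x i j u)⁻¹ = x k l a := by
  rw [w, conj_mul3, h.cc hij hkl hkj.symm hli.symm, h.cc hij.symm hkl hki.symm hlj.symm,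
    h.cc hij hkl hkj.symm hli.symm]

omit h in
theorem conj_br (g a b : Γ) : g * ⁅a, b⁆ * g⁻¹ = ⁅g * a * g⁻¹, g * b * g⁻¹⁆ := by
  simp only [commutatorElement_def]
  group

theorem w5 (hι : 3 ≤ Fintype.card ι) {i j : ι} (hij : i ≠ j) {u : F} (hu : u ≠ 0) (a : F) :
    w x i j u * x i j a * (w x i j u)⁻¹ = x j i (u⁻¹ * a * u⁻¹) := by
  obtain ⟨k, hki, hkj⟩ := h.exists_third hι i j
  have e : x i j a = ⁅x i k a, x k j 1⁆ := by rw [h.br i k j hki.symm hkj hij, mul_one]
  rw [e, conj_br, h.w1 hij hkj.symm hki.symm hu, h.w4 hij hkj.symm hki.symm hu, h.br j k i hkj.symm hki hij.symm,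
    one_mul]

theorem w6 (hι : 3 ≤ Fintype.card ι) {i j : ι} (hij : i ≠ j) {u : F} (hu : u ≠ 0) (a : F) :
    w x i j u * x j i a * (w x i j u)⁻¹ = x i j (u * a * u) := by
  obtain ⟨k, hki, hkj⟩ := h.exists_third hι i j
  have e : x j i a = ⁅x j k a, x k i 1⁆ := by rw [h.br j k i hkj.symm hki hij.symm, mul_one]
  rw [e, conj_br, h.w2 hij hkj.symm hki.symm hu, h.w3 hij hkj.symm hki.symm hu, h.br i k j hki.symm hkj hij,
    one_mul]

/-- `w_{ij}(u) = w_{ji}(u⁻¹)` -/
theorem w_symm (hι : 3 ≤ Fintype.card ι) {i j : ι} (hij : i ≠ j) {u : F} (hu : u ≠ 0) : w x i j u = w x j i u⁻¹ := by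
  have h1 : w x i j u * w x i j u * (w x i j u)⁻¹ = w x j i u⁻¹ := by
    have h2 : w x i j u * (x i j u * x j i u⁻¹ * x i j u) * (w x i j u)⁻¹ =
        (w x i j u * x i j u * (w x i j u)⁻¹) * (w x i j u * x j i u⁻¹ * (w x i j u)⁻¹) *
          (w x i j u * x i j u * (w x i j u)⁻¹) := by group
    change w x i j u * (x i j u * x j i u⁻¹ * x i j u) * (w x i j u)⁻¹ = _
    rw [h2, h.w5 hι hij hu, h.w6 hι hij hu]
    have e1 : u⁻¹ * u * u⁻¹ = u⁻¹ := by field_simp
    have e2 : u * u⁻¹ * u = u := by field_simp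
    rw [e1, e2, w, inv_inv]
  rw [← h1, mul_inv_cancel_right]

/-- conjugation by `w_{ij}(1)` is a permutation of the root elements -/
theorem w_perm (hι : 3 ≤ Fintype.card ι) {i j : ι} (hij : i ≠ j) {k l : ι} (hkl : k ≠ l) (a : F) :
    w x i j 1 * x k l a * (w x i j 1)⁻¹ = x (Equiv.swap i j k) (Equiv.swap i j l) a := by
  have h1 : (1 : F) ≠ 0 := one_ne_zero
  by_cases hki : k = i
  · subst hki
    rw [Equiv.swap_apply_left]
    by_cases hlj : l = j
    · subst hlj
      rw [Equiv.swap_apply_right, h.w5 hι hij h1]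
      congr 1; simp
    · rw [Equiv.swap_apply_of_ne_of_ne hkl.symm hlj, h.w1 hij (Ne.symm hlj) hkl h1]
      congr 1; simp
  by_cases hkj : k = j
  · subst hkj
    rw [Equiv.swap_apply_right]
    by_cases hli : l = i
    · subst hli
      rw [Equiv.swap_apply_left, h.w6 hι hij h1]
      congr 1; simp
    · rw [Equiv.swap_apply_of_ne_of_ne hli hkl.symm, h.w2 hij hkl (Ne.symm hli) h1]
      congr 1; simp
  rw [Equiv.swap_apply_of_ne_of_ne hki hkj]
  by_cases hli : l = i
  · subst hli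
    rw [Equiv.swap_apply_left, h.w3 hij (Ne.symm hkj) (Ne.symm hki) h1]
    congr 1; simp
  by_cases hlj : l = j
  · subst hlj
    rw [Equiv.swap_apply_right, h.w4 hij (Ne.symm hkj) (Ne.symm hki) h1]
    congr 1; simp
  rw [Equiv.swap_apply_of_ne_of_ne hli hlj, h.w0 hij hkl hki hkj hli hlj]

/-! ### the torus -/

omit h in
/-- `h_{ij}(u) = w_{ij}(u) w_{ij}(1)` -/
def t (x : ι → ι → F → Γ) (i j : ι) (u : F) : Γ := w x i j u * w x i j 1

theorem t_one {i j : ι} (hij : i ≠ j) : t x i j 1 = 1 := h.ww hij 1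

omit h in
/-- the multiplicative weight of the root `(k, l)` on `h_{ij}(u)` -/
def wt (i j k l : ι) (u : F) : F :=
  (if k = i then u else if k = j then u⁻¹ else 1) * (if l = i then u⁻¹ else if l = j then u else 1)

theorem t_conj (hι : 3 ≤ Fintype.card ι) {i j : ι} (hij : i ≠ j) {u : F} (hu : u ≠ 0) {k l : ι} (hkl : k ≠ l) (a : F) :
    t x i j u * x k l a * (t x i j u)⁻¹ = x k l (wt i j k l u * a) := by
  have h1 : t x i j u * x k l a * (t x i j u)⁻¹ =
      w x i j u * (w x i j 1 * x k l a * (w x i j 1)⁻¹) * (w x i j u)⁻¹ := by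
    rw [t]; group
  rw [h1, h.w_perm hι hij hkl]
  by_cases hki : k = i
  · subst hki
    rw [Equiv.swap_apply_left]
    by_cases hlj : l = j
    · subst hlj
      rw [Equiv.swap_apply_right, h.w6 hι hij hu]
      congr 1
      simp [wt, hkl.symm]
      ring
    · rw [Equiv.swap_apply_of_ne_of_ne hkl.symm hlj, h.w2 hij (Ne.symm hlj) hkl hu]
      congr 1
      simp [wt, hkl.symm, hlj]
  by_cases hkj : k = j
  · subst hkj
    rw [Equiv.swap_apply_right]
    by_cases hli : l = i
    · subst hli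
      rw [Equiv.swap_apply_left, h.w5 hι hij hu]
      congr 1
      simp [wt, hkl]
      ring
    · rw [Equiv.swap_apply_of_ne_of_ne hli hkl.symm, h.w1 hij hkl (Ne.symm hli) hu]
      congr 1
      simp [wt, hki, hli, hkl.symm]
  rw [Equiv.swap_apply_of_ne_of_ne hki hkj]
  by_cases hli : l = i
  · subst hli
    rw [Equiv.swap_apply_left, h.w4 hij (Ne.symm hkj) (Ne.symm hki) hu]
    congr 1
    simp [wt, hki, hkj]
    ring
  by_cases hlj : l = j
  · subst hlj
    rw [Equiv.swap_apply_right, h.w3 hij (Ne.symm hkj) (Ne.symm hki) hu]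
    congr 1
    simp [wt, hki, hkj, hli]
    ring
  rw [Equiv.swap_apply_of_ne_of_ne hli hlj, h.w0 hij hkl hki hkj hli hlj]
  congr 1
  simp [wt, hki, hkj, hli, hlj]


omit h in
theorem wt_ne_zero {i j k l : ι} {u : F} (hu : u ≠ 0) : wt i j k l u ≠ 0 := by
  unfold wt
  apply mul_ne_zero
  · split_ifs
    · exact hu
    · exact inv_ne_zero hu
    · exact one_ne_zero
  · split_ifs
    · exact inv_ne_zero hu
    · exact hu
    · exact one_ne_zero

omit h in
theorem wt_inv {i j k l : ι} {u : F} (hu : u ≠ 0) (hij : i ≠ j) (hkl : k ≠ l) : wt i j l k u = (wt i j k l u)⁻¹ := by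
  unfold wt
  by_cases hki : k = i
  · subst hki
    by_cases hlj : l = j
    · subst hlj
      simp [hkl.symm]
    · simp [hkl.symm, hlj]
  by_cases hkj : k = j
  · subst hkj
    by_cases hli : l = i
    · subst hli
      simp [hkl, hkl.symm]
    · simp [hli, hkl.symm, hij.symm]
  by_cases hli : l = i
  · subst hli
    simp [hki, hkj]
  by_cases hlj : l = j
  · subst hlj
    simp [hki, hkj, hij.symm]
  simp [hki, hkj, hli, hlj]

/-- the torus acts on `w_{kl}(a)` -/
theorem t_conj_w (hι : 3 ≤ Fintype.card ι) {i j : ι} (hij : i ≠ j) {u : F} (hu : u ≠ 0) {k l : ι} (hkl : k ≠ l)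
    (a : F) : t x i j u * w x k l a * (t x i j u)⁻¹ = w x k l (wt i j k l u * a) := by
  have e : t x i j u * w x k l a * (t x i j u)⁻¹ = (t x i j u * x k l a * (t x i j u)⁻¹) *
      (t x i j u * x l k a⁻¹ * (t x i j u)⁻¹) * (t x i j u * x k l a * (t x i j u)⁻¹) := by
    rw [w]; group
  rw [e, h.t_conj hι hij hu hkl, h.t_conj hι hij hu hkl.symm, wt_inv hu hij hkl, w, mul_inv]

theorem t_inv {i j : ι} (hij : i ≠ j) (u : F) : (t x i j u)⁻¹ = w x i j 1 * w x i j u := by
  rw [t, _root_.mul_inv_rev, h.winv hij, h.winv hij]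

theorem t_conj_t (hι : 3 ≤ Fintype.card ι) {i j : ι} (hij : i ≠ j) {u : F} (hu : u ≠ 0) {k l : ι} (hkl : k ≠ l)
    (a : F) : t x i j u * t x k l a * (t x i j u)⁻¹ = t x k l (wt i j k l u * a) * (t x k l (wt i j k l u))⁻¹ := by
  have e : t x i j u * t x k l a * (t x i j u)⁻¹ = (t x i j u * w x k l a * (t x i j u)⁻¹) *
      (t x i j u * w x k l 1 * (t x i j u)⁻¹) := by
    rw [t, t]; group
  rw [e, h.t_conj_w hι hij hu hkl, h.t_conj_w hι hij hu hkl, mul_one, h.t_inv hkl]
  have e2 : w x k l (wt i j k l u * a) * w x k l (wt i j k l u) =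
      w x k l (wt i j k l u * a) * (w x k l 1 * w x k l 1) * w x k l (wt i j k l u) := by
    rw [h.ww hkl, mul_one]
  rw [e2, t]
  group

/-- `h(u)² = h(u²)` -/
theorem t_sq (hι : 3 ≤ Fintype.card ι) {i j : ι} (hij : i ≠ j) {u : F} (hu : u ≠ 0) :
    t x i j u * t x i j u = t x i j (u * u) := by
  have h1 : w x i j u * w x i j 1 * (w x i j u)⁻¹ = w x i j (u * u) := by
    have e : w x i j u * w x i j 1 * (w x i j u)⁻¹ = (w x i j u * x i j 1 * (w x i j u)⁻¹) *
        (w x i j u * x j i 1⁻¹ * (w x i j u)⁻¹) * (w x i j u * x i j 1 * (w x i j u)⁻¹) := by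
      rw [w, w]; group
    have e1 : u⁻¹ * 1 * u⁻¹ = (u * u)⁻¹ := by
      rw [mul_one, mul_inv]
    rw [e, inv_one, h.w5 hι hij hu, h.w6 hι hij hu, e1]
    have e2 : u * 1 * u = ((u * u)⁻¹)⁻¹ := by rw [inv_inv, mul_one]
    rw [e2]
    change w x j i (u * u)⁻¹ = _
    rw [← h.w_symm hι hij (mul_ne_zero hu hu)]
  calc t x i j u * t x i j u = (w x i j u * w x i j 1 * (w x i j u)⁻¹) * (w x i j u * w x i j u) * w x i j 1 := by
        rw [t]; group
    _ = t x i j (u * u) := by rw [h1, h.ww hij, mul_one, t]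


omit h in
theorem two_eq_zero : (2 : F) = 0 := by
  have := CharP.cast_eq_zero F 2
  exact_mod_cast this

section phi

variable {φ : Γ →* SpecialLinearGroup ι F}
  (hφ : ∀ i j (hij : i ≠ j) a, φ (x i j a) = SpecialLinearGroup.transvection hij a)

include hφ

omit h in
theorem phi_x {i j : ι} (hij : i ≠ j) (a : F) (v : ι → F) (k : ι) :
    (φ (x i j a) • v) k = if k = i then v i + a * v j else v k := by
  rw [hφ i j hij, Cfsg.Agent.LieClassical.SLGen.transvection_smul]
  by_cases hk : k = i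
  · subst hk
    simp
  · simp [hk]

omit h in
theorem phi_w {i j : ι} (hij : i ≠ j) {u : F} (hu : u ≠ 0) (v : ι → F) (k : ι) :
    (φ (w x i j u) • v) k = if k = i then u * v j else if k = j then u⁻¹ * v i else v k := by
  have h2 : (2 : F) = 0 := two_eq_zero
  have e1 := phi_x hφ hij u
  have e2 := phi_x hφ hij.symm u⁻¹
  rw [w, map_mul, map_mul, mul_smul, mul_smul]
  by_cases hki : k = i
  · subst hki
    simp only [e1, e2, if_true, hij, hij.symm, if_false]
    field_simp
    linear_combination (v k + u * v j) * h2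
  · by_cases hkj : k = j
    · subst hkj
      simp only [e1, e2, if_true, hij, hij.symm, if_false, hki]
      field_simp
      linear_combination (u * v k) * h2
    · simp only [e1, e2, if_true, hij, hij.symm, if_false, hki, hkj]

omit h in
theorem phi_t {i j : ι} (hij : i ≠ j) {u : F} (hu : u ≠ 0) (v : ι → F) (k : ι) :
    (φ (t x i j u) • v) k = if k = i then u * v i else if k = j then u⁻¹ * v j else v k := by
  rw [t, map_mul, mul_smul, phi_w hφ hij hu, phi_w hφ hij one_ne_zero, phi_w hφ hij one_ne_zero,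
    phi_w hφ hij one_ne_zero]
  by_cases hki : k = i
  · subst hki
    simp [hij.symm]
  · by_cases hkj : k = j
    · subst hkj
      simp [hki]
    · simp [hki, hkj]

omit h in
/-- the torus homomorphism property modulo the kernel -/
theorem c_mem_ker {i j : ι} (hij : i ≠ j) {u v : F} (hu : u ≠ 0) (hv : v ≠ 0) :
    t x i j u * t x i j v * (t x i j (u * v))⁻¹ ∈ φ.ker := by
  rw [MonoidHom.mem_ker, map_mul, map_inv, mul_inv_eq_one]
  apply Cfsg.Agent.LieClassical.SLGen.smul_ext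
  intro y
  funext k
  rw [map_mul, mul_smul, phi_t hφ hij hu, phi_t hφ hij hv, phi_t hφ hij hv, phi_t hφ hij hv,
    phi_t hφ hij (mul_ne_zero hu hv)]
  by_cases hki : k = i
  · subst hki
    simp
    ring
  · by_cases hkj : k = j
    · subst hkj
      simp [hki]
      ring
    · simp [hki, hkj]

end phi

omit h in
/-- the symbol -/
def sym (x : ι → ι → F → Γ) (i j : ι) (u v : F) : Γ := t x i j u * t x i j v * (t x i j (u * v))⁻¹

omit h in
theorem t_mul_t (i j : ι) (u v : F) : t x i j u * t x i j v = sym x i j u v * t x i j (u * v) := by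
  rw [sym]; group

omit h in
theorem comm_inv {c g : Γ} (hc : g * c = c * g) : g * c⁻¹ = c⁻¹ * g := by
  have : Commute g c := hc
  exact this.inv_right

theorem sym_br (hι : 3 ≤ Fintype.card ι) {i j k : ι} (hij : i ≠ j) (hik : i ≠ k) (hjk : j ≠ k) {u v : F}
    (hv : v ≠ 0) : t x i k v * t x i j u * (t x i k v)⁻¹ = (sym x i j u v)⁻¹ * t x i j u := by
  have e : wt i k i j v = v := by simp [wt, hij.symm, hjk]
  have h1 := h.t_conj_t hι hik hv hij u
  rw [e, mul_comm v u] at h1
  rw [h1, sym]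
  group

theorem sym_mul (hι : 3 ≤ Fintype.card ι) {i j k : ι} (hij : i ≠ j) (hik : i ≠ k) (hjk : j ≠ k)
    (hc : ∀ u v, u ≠ 0 → v ≠ 0 → ∀ g : Γ, g * sym x i j u v = sym x i j u v * g) {u u' v : F}
    (hu : u ≠ 0) (hu' : u' ≠ 0) (hv : v ≠ 0) : sym x i j (u * u') v = sym x i j u v * sym x i j u' v := by
  have h1 : t x i j (u * u') = (sym x i j u u')⁻¹ * (t x i j u * t x i j u') := by rw [t_mul_t]; group
  have h2 := h.sym_br hι hij hik hjk hv (u := u * u')
  have h3 : t x i k v * t x i j (u * u') * (t x i k v)⁻¹ =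
      (sym x i j u u')⁻¹ * ((sym x i j u v)⁻¹ * t x i j u) * ((sym x i j u' v)⁻¹ * t x i j u') := by
    rw [h1, ← h.sym_br hι hij hik hjk hv, ← h.sym_br hι hij hik hjk hv]
    have h5 := comm_inv (hc u u' hu hu' (t x i k v))
    calc t x i k v * ((sym x i j u u')⁻¹ * (t x i j u * t x i j u')) * (t x i k v)⁻¹ =
        (t x i k v * (sym x i j u u')⁻¹) * (t x i j u * t x i j u') * (t x i k v)⁻¹ := by group
      _ = (sym x i j u u')⁻¹ * (t x i k v * t x i j u * (t x i k v)⁻¹) *
          (t x i k v * t x i j u' * (t x i k v)⁻¹) := by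
          rw [h5]; group
  rw [h3, h1] at h2
  have h7 := comm_inv (hc u' v hu' hv (t x i j u))
  have h9 : (sym x i j u u')⁻¹ * ((sym x i j u v)⁻¹ * (sym x i j u' v)⁻¹) * (t x i j u * t x i j u') =
      (sym x i j (u * u') v)⁻¹ * (sym x i j u u')⁻¹ * (t x i j u * t x i j u') := by
    calc (sym x i j u u')⁻¹ * ((sym x i j u v)⁻¹ * (sym x i j u' v)⁻¹) * (t x i j u * t x i j u') =
        (sym x i j u u')⁻¹ * (sym x i j u v)⁻¹ * ((sym x i j u' v)⁻¹ * t x i j u) * t x i j u' := by group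
      _ = (sym x i j u u')⁻¹ * ((sym x i j u v)⁻¹ * t x i j u) * ((sym x i j u' v)⁻¹ * t x i j u') := by
          rw [← h7]; group
      _ = _ := by rw [h2]; group
  have h10 := mul_right_cancel h9
  have h11 : (sym x i j (u * u') v)⁻¹ * (sym x i j u u')⁻¹ = (sym x i j u u')⁻¹ * (sym x i j (u * u') v)⁻¹ := by
    rw [← _root_.mul_inv_rev, ← _root_.mul_inv_rev, hc (u * u') v (mul_ne_zero hu hu') hv (sym x i j u u')]
  rw [h11] at h10
  have h12 := mul_left_cancel h10
  rw [← _root_.inv_inj, ← h12, _root_.mul_inv_rev, ← _root_.mul_inv_rev, hc u v hu hv, _root_.mul_inv_rev]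

theorem sym_self (hι : 3 ≤ Fintype.card ι) {i j : ι} (hij : i ≠ j) {u : F} (hu : u ≠ 0) : sym x i j u u = 1 := by
  rw [sym, h.t_sq hι hij hu, mul_inv_cancel]

/-- a symbol which is trivial on a generator on the left is trivial -/
theorem sym_eq_one_of [Finite F] (hι : 3 ≤ Fintype.card ι) {i j k : ι} (hij : i ≠ j) (hik : i ≠ k) (hjk : j ≠ k)
    (hc : ∀ u v, u ≠ 0 → v ≠ 0 → ∀ g : Γ, g * sym x i j u v = sym x i j u v * g) {g : Fˣ}
    (hg : ∀ a : Fˣ, a ∈ Subgroup.zpowers g) {v : F} (hv : v ≠ 0) (hgv : sym x i j (g : F) v = 1) {u : F}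
    (hu : u ≠ 0) : sym x i j u v = 1 := by
  let f : Fˣ →* Γ :=
    { toFun := fun a => sym x i j a v
      map_one' := by
        have h3 := h.sym_mul hι hij hik hjk hc (u := 1) (u' := 1) one_ne_zero one_ne_zero hv
        rw [mul_one] at h3
        rw [Units.val_one]
        exact (mul_left_cancel (a := sym x i j 1 v) (b := 1) (c := sym x i j 1 v) (by rw [mul_one]; exact h3)).symm
      map_mul' := fun a b => h.sym_mul hι hij hik hjk hc a.ne_zero b.ne_zero hv }
  have hf : f g = 1 := hgv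
  obtain ⟨k, hk⟩ := Subgroup.mem_zpowers_iff.1 (hg (Units.mk0 u hu))
  have h5 : f (Units.mk0 u hu) = 1 := by rw [← hk, map_zpow, hf, _root_.one_zpow]
  exact h5

/-- **the symbols are trivial** over finite fields of characteristic two -/
theorem sym_eq_one [Finite F] (hι : 3 ≤ Fintype.card ι) {φ : Γ →* SpecialLinearGroup ι F}
    (hφ : ∀ i j (hij : i ≠ j) a, φ (x i j a) = SpecialLinearGroup.transvection hij a)
    (hker : φ.ker ≤ Subgroup.center Γ) {i j : ι} (hij : i ≠ j)
    {u v : F} (hu : u ≠ 0) (hv : v ≠ 0) : sym x i j u v = 1 := by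
  obtain ⟨k, hki, hkj⟩ := h.exists_third hι i j
  have hc : ∀ i j, i ≠ j → ∀ u v, u ≠ 0 → v ≠ 0 → ∀ g : Γ, g * sym x i j u v = sym x i j u v * g :=
    fun i j hij u v hu hv g => Subgroup.mem_center_iff.1 (hker (c_mem_ker hφ hij hu hv)) g
  obtain ⟨g, hg⟩ := IsCyclic.exists_generator (α := Fˣ)
  -- `sym v g = 1` for `(i, k)`
  have h1 : sym x i k v (g : F) = 1 :=
    h.sym_eq_one_of hι hki.symm hij hkj (hc i k hki.symm) hg g.ne_zero (h.sym_self hι hki.symm g.ne_zero) hv
  have h2 := h.sym_br hι hki.symm hij hkj (u := v) g.ne_zero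
  rw [h1, inv_one, one_mul] at h2
  have h3 := h.sym_br hι hij hki.symm hkj.symm (u := (g : F)) hv
  have h4 : t x i k v * t x i j g * (t x i k v)⁻¹ = t x i j g := by
    have : t x i j g * t x i k v = t x i k v * t x i j g := by
      calc t x i j g * t x i k v = t x i j g * t x i k v * (t x i j g)⁻¹ * t x i j g := by group
        _ = _ := by rw [h2]
    rw [← this]; group
  rw [h4] at h3
  have h5 : sym x i j (g : F) v = 1 := by
    have h6 : (sym x i j (g : F) v)⁻¹ = 1 := by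
      have h7 : t x i j g * (t x i j g)⁻¹ = (sym x i j (g : F) v)⁻¹ * t x i j g * (t x i j g)⁻¹ := by rw [← h3]
      rw [mul_inv_cancel, mul_inv_cancel_right] at h7
      exact h7.symm
    rwa [inv_eq_one] at h6
  exact h.sym_eq_one_of hι hij hki.symm hkj.symm (hc i j hij) hg hv h5 hu


/-! ### the torus as a product -/

theorem t_rev (hι : 3 ≤ Fintype.card ι) {i j : ι} (hij : i ≠ j) {u : F} (hu : u ≠ 0) : t x j i u = t x i j u⁻¹ := by
  rw [t, t, h.w_symm hι hij.symm hu, h.w_symm hι hij.symm one_ne_zero, inv_one]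

theorem t_dec (hι : 3 ≤ Fintype.card ι) {o i j : ι} (hoi : o ≠ i) (hoj : o ≠ j) (hij : i ≠ j) {u : F} (hu : u ≠ 0) :
    t x i j u⁻¹ = t x o i u * (t x o j u)⁻¹ := by
  have e : wt o i i j u = u⁻¹ := by simp [wt, hoi.symm, hoj.symm, hij.symm]
  have h1 := h.t_conj_w hι hoi hu hij 1
  rw [e, mul_one] at h1
  have h2 : w x i j 1 * t x o i u * (w x i j 1)⁻¹ = t x o j u := by
    have e1 : w x i j 1 * t x o i u * (w x i j 1)⁻¹ =
        ((w x i j 1 * x o i u * (w x i j 1)⁻¹) * (w x i j 1 * x i o u⁻¹ * (w x i j 1)⁻¹) *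
          (w x i j 1 * x o i u * (w x i j 1)⁻¹)) *
        ((w x i j 1 * x o i 1 * (w x i j 1)⁻¹) * (w x i j 1 * x i o 1⁻¹ * (w x i j 1)⁻¹) *
          (w x i j 1 * x o i 1 * (w x i j 1)⁻¹)) := by
      rw [t, w, w, w]; group
    rw [e1, h.w_perm hι hij hoi, h.w_perm hι hij hoi.symm, h.w_perm hι hij hoi, h.w_perm hι hij hoi.symm,
      Equiv.swap_apply_left, Equiv.swap_apply_of_ne_of_ne hoi hoj]
    rfl
  have h3 : t x i j u⁻¹ = t x o i u * w x i j 1 * (t x o i u)⁻¹ * w x i j 1 := by rw [h1, t]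
  rw [h3, ← h2]
  have h4 := h.winv hij (1 : F)
  rw [h4]
  have h5 : (w x i j 1 * t x o i u * w x i j 1)⁻¹ = w x i j 1 * (t x o i u)⁻¹ * w x i j 1 := by
    rw [_root_.mul_inv_rev, _root_.mul_inv_rev, h4, mul_assoc]
  rw [h5]
  group

omit h in
/-- the torus -/
def tor (x : ι → ι → F → Γ) : Subgroup Γ := Subgroup.closure {g | ∃ i j, i ≠ j ∧ ∃ u, u ≠ 0 ∧ g = t x i j u}

omit h in
theorem t_mem_tor {i j : ι} (hij : i ≠ j) {u : F} (hu : u ≠ 0) : t x i j u ∈ tor x :=
  Subgroup.subset_closure ⟨i, j, hij, u, hu, rfl⟩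

/-- the torus maps isomorphically to the diagonal group -/
theorem tor_inj [Finite F] (hι : 3 ≤ Fintype.card ι) {φ : Γ →* SpecialLinearGroup ι F}
    (hφ : ∀ i j (hij : i ≠ j) a, φ (x i j a) = SpecialLinearGroup.transvection hij a)
    (hker : φ.ker ≤ Subgroup.center Γ) {g : Γ} (hg : g ∈ tor x) (hg1 : φ g = 1) : g = 1 := by
  have hm : ∀ i j, i ≠ j → ∀ u v, u ≠ 0 → v ≠ 0 → t x i j u * t x i j v = t x i j (u * v) := by
    intro i j hij u v hu hv
    rw [t_mul_t, h.sym_eq_one hι hφ hker hij hu hv, one_mul]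
  have hcomm : ∀ i j k l, i ≠ j → k ≠ l → ∀ u v, u ≠ 0 → v ≠ 0 → Commute (t x i j u) (t x k l v) := by
    intro i j k l hij hkl u v hu hv
    have h1 := h.t_conj_t hι hij hu hkl v
    have h2 : wt i j k l u ≠ 0 := wt_ne_zero hu
    rw [← hm k l hkl _ _ h2 hv, (show t x k l (wt i j k l u) * t x k l v = t x k l v * t x k l (wt i j k l u) by
      rw [hm k l hkl _ _ h2 hv, hm k l hkl _ _ hv h2, mul_comm]), mul_inv_cancel_right] at h1
    change t x i j u * t x k l v = t x k l v * t x i j u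
    calc t x i j u * t x k l v = t x i j u * t x k l v * (t x i j u)⁻¹ * t x i j u := by group
      _ = _ := by rw [h1]
  have : Nonempty ι := Fintype.card_pos_iff.1 (by omega)
  obtain ⟨o⟩ := this
  let f : ι → Fˣ →* Γ := fun j => if hj : o = j then 1 else
    { toFun := fun u => t x o j u
      map_one' := by rw [Units.val_one]; exact h.t_one hj
      map_mul' := fun u v => (hm o j hj u v u.ne_zero v.ne_zero).symm }
  have hf : ∀ j, o ≠ j → ∀ u : Fˣ, f j u = t x o j u := by
    intro j hj u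
    simp only [f, dif_neg hj]
    rfl
  have hfo : ∀ u : Fˣ, f o u = 1 := by
    intro u
    simp only [f, dif_pos]
    rfl
  have hpair : Pairwise fun i j => ∀ a b : Fˣ, Commute (f i a) (f j b) := by
    intro i j hij a b
    by_cases hi : o = i
    · subst hi
      rw [hfo]
      exact Commute.one_left _
    by_cases hj : o = j
    · subst hj
      rw [hfo]
      exact Commute.one_right _
    rw [hf i hi, hf j hj]
    exact hcomm _ _ _ _ hi hj _ _ a.ne_zero b.ne_zero
  let Θ : (ι → Fˣ) →* Γ := MonoidHom.noncommPiCoprod f hpair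
  have hΘ : ∀ j (u : Fˣ), Θ (Pi.mulSingle j u) = f j u := fun j u => MonoidHom.noncommPiCoprod_mulSingle ..
  have hle : tor x ≤ Θ.range := by
    rw [tor, Subgroup.closure_le]
    rintro _ ⟨i, j, hij, u, hu, rfl⟩
    by_cases hi : o = i
    · subst hi
      exact ⟨Pi.mulSingle j (Units.mk0 u hu), by rw [hΘ, hf j hij, Units.val_mk0]⟩
    by_cases hj : o = j
    · subst hj
      refine ⟨Pi.mulSingle i (Units.mk0 u hu)⁻¹, ?_⟩
      rw [hΘ, hf i hi, h.t_rev hι hi hu, Units.val_inv_eq_inv_val, Units.val_mk0]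
    · have h1 := h.t_dec hι hi hj hij (inv_ne_zero hu)
      rw [inv_inv] at h1
      refine ⟨Pi.mulSingle i (Units.mk0 u hu)⁻¹ * (Pi.mulSingle j (Units.mk0 u hu)⁻¹)⁻¹, ?_⟩
      rw [map_mul, map_inv, hΘ, hΘ, hf i hi, hf j hj, h1, Units.val_inv_eq_inv_val, Units.val_mk0]
  obtain ⟨y, rfl⟩ := hle hg
  -- the diagonal entries
  have hdiag : ∀ y : ι → Fˣ, ∀ k, o ≠ k → ∀ v : ι → F, (φ (Θ y) • v) k = ((y k)⁻¹ : Fˣ) * v k := by
    intro y k hk
    refine Pi.mulSingle_induction (fun y => ∀ v : ι → F, (φ (Θ y) • v) k = ((y k)⁻¹ : Fˣ) * v k) y ?_ ?_ ?_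
    · intro v
      rw [map_one, map_one, one_smul]
      simp
    · intro a b ha hb v
      rw [map_mul, map_mul, mul_smul, ha, hb, Pi.mul_apply, _root_.mul_inv_rev, Units.val_mul]
      ring
    · intro j a v
      rw [hΘ]
      by_cases hj : o = j
      · subst hj
        rw [hfo, map_one, one_smul, Pi.mulSingle_eq_of_ne hk.symm]
        simp
      · rw [hf j hj, phi_t hφ hj a.ne_zero]
        by_cases hkj : k = j
        · subst hkj
          simp [hk.symm]
        · rw [Pi.mulSingle_eq_of_ne hkj]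
          simp [hk.symm, hkj]
  have hy : y = Pi.mulSingle o (y o) := by
    funext k
    by_cases hk : o = k
    · subst hk
      simp
    · have h1 := hdiag y k hk (fun _ => 1)
      rw [hg1, one_smul, mul_one] at h1
      have h2 : (y k)⁻¹ = 1 := Units.ext h1.symm
      rw [Pi.mulSingle_eq_of_ne (Ne.symm hk)]
      rwa [inv_eq_one] at h2
  rw [hy, hΘ, hfo]

end SteinRel

end Cfsg.Agent.AGraded
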