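import Mathlib
import Cfsg.Agent.LieClassical.SLGen

/-!
# Involutions of `SL ι F` in characteristic two as `1 + N`, `N ^ 2 = 0`

`uni N h` is the element `v ↦ v + N v` of `SL ι F`; `T v` is the group of all transvections with centre `v`.
-/

set_option autoImplicit false
set_option linter.unusedSectionVars false
set_option linter.unusedVariables false

namespace Cfsg.Agent.AGraded

open Matrix Cfsg.Agent.LieClassical.SLGen

universe u v

variable {ι : Type u} [Fintype ι] [DecidableEq ι] {F : Type v} [Field F] [CharP F 2]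

theorem vadd_self (v : ι → F) : v + v = 0 := by
  funext i
  exact CharTwo.add_self_eq_zero (v i)

theorem vneg (v : ι → F) : -v = v := by
  rw [neg_eq_iff_add_eq_zero, vadd_self]

theorem vsub (v w : ι → F) : v - w = v + w := by
  rw [sub_eq_add_neg, vneg w]

theorem madd_self (N : (ι → F) →ₗ[F] (ι → F)) : N + N = 0 := by
  apply LinearMap.ext
  intro v
  exact vadd_self (N v)

theorem eq_of_add_eq_zero' {v w : ι → F} (h : v + w = 0) : v = w := by
  rw [← vneg w]
  exact eq_neg_of_add_eq_zero_left h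

theorem slsmul_smul (s : SpecialLinearGroup ι F) (c : F) (v : ι → F) : s • (c • v) = c • (s • v) := by
  rw [Matrix.SpecialLinearGroup.smul_def, Matrix.SpecialLinearGroup.smul_def]
  exact Matrix.mulVec_smul _ _ _

theorem det_id_add (N : (ι → F) →ₗ[F] (ι → F)) (h : ∀ v, N (N v) = 0) :
    (LinearMap.toMatrix' (LinearMap.id + N)).det = 1 := by
  have h1 : (LinearMap.id + N).comp (LinearMap.id + N) = LinearMap.id := by
    apply LinearMap.ext
    intro v
    rw [LinearMap.comp_apply, LinearMap.add_apply, LinearMap.add_apply, LinearMap.id_apply, LinearMap.id_apply,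
      map_add, h, add_zero, add_assoc, vadd_self, add_zero]
  have h2 : (LinearMap.toMatrix' (LinearMap.id + N)) * (LinearMap.toMatrix' (LinearMap.id + N)) = 1 := by
    rw [← LinearMap.toMatrix'_comp, h1, LinearMap.toMatrix'_id]
  have h3 := congrArg Matrix.det h2
  rw [Matrix.det_mul, Matrix.det_one] at h3
  have h4 : ((LinearMap.toMatrix' (LinearMap.id + N)).det - 1) * ((LinearMap.toMatrix' (LinearMap.id + N)).det - 1) = 0 := by
    have h5 : (2 : F) = 0 := by
      have := CharP.cast_eq_zero F 2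
      exact_mod_cast this
    linear_combination h3 + (1 - (LinearMap.toMatrix' (LinearMap.id + N)).det) * h5
  exact sub_eq_zero.1 (mul_self_eq_zero.1 h4)

/-- the element `1 + N` -/
noncomputable def uni (N : (ι → F) →ₗ[F] (ι → F)) (h : ∀ v, N (N v) = 0) : SpecialLinearGroup ι F :=
  ⟨LinearMap.toMatrix' (LinearMap.id + N), det_id_add N h⟩

theorem uni_smul (N : (ι → F) →ₗ[F] (ι → F)) (h : ∀ v, N (N v) = 0) (v : ι → F) : uni N h • v = v + N v := by
  rw [Matrix.SpecialLinearGroup.smul_def]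
  change (LinearMap.toMatrix' (LinearMap.id + N)) *ᵥ v = _
  rw [LinearMap.toMatrix'_mulVec]
  rfl

theorem uni_mul_self (N : (ι → F) →ₗ[F] (ι → F)) (h : ∀ v, N (N v) = 0) : uni N h * uni N h = 1 := by
  apply smul_ext
  intro v
  rw [mul_smul, one_smul, uni_smul, uni_smul, map_add, h, add_zero, add_assoc, vadd_self, add_zero]

theorem uni_inj {N N' : (ι → F) →ₗ[F] (ι → F)} {h : ∀ v, N (N v) = 0} {h' : ∀ v, N' (N' v) = 0}
    (e : uni N h = uni N' h') : N = N' := by
  apply LinearMap.ext
  intro v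
  have := congrArg (fun s => s • v) e
  simp only [uni_smul] at this
  exact add_left_cancel this

theorem uni_eq_one_iff {N : (ι → F) →ₗ[F] (ι → F)} {h : ∀ v, N (N v) = 0} : uni N h = 1 ↔ N = 0 := by
  constructor
  · intro e
    apply LinearMap.ext
    intro v
    have := congrArg (fun s => s • v) e
    simp only [uni_smul, one_smul] at this
    simpa using this
  · rintro rfl
    apply smul_ext
    intro v
    rw [uni_smul, one_smul, LinearMap.zero_apply, add_zero]

/-- every involution of `SL` is a `uni` -/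
theorem exists_uni {s : SpecialLinearGroup ι F} (hs : s * s = 1) :
    ∃ (N : (ι → F) →ₗ[F] (ι → F)) (h : ∀ v, N (N v) = 0), s = uni N h := by
  let N : (ι → F) →ₗ[F] (ι → F) :=
    { toFun := fun v => v + s • v
      map_add' := fun v w => by
        rw [smul_add]
        abel
      map_smul' := fun c v => by
        rw [RingHom.id_apply, smul_add, slsmul_smul] }
  have hN : ∀ v, N v = v + s • v := fun v => rfl
  refine ⟨N, fun v => ?_, ?_⟩
  · rw [hN, hN, smul_add, ← mul_smul, hs, one_smul, add_comm (s • v) v, vadd_self]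
  · apply smul_ext
    intro v
    rw [uni_smul, hN, ← add_assoc, vadd_self, zero_add]

theorem uni_mul_uni {N N' : (ι → F) →ₗ[F] (ι → F)} {h : ∀ v, N (N v) = 0} {h' : ∀ v, N' (N' v) = 0}
    (hNN' : ∀ v, N (N' v) = 0) (h2 : ∀ v, (N + N') ((N + N') v) = 0) :
    uni N h * uni N' h' = uni (N + N') h2 := by
  apply smul_ext
  intro v
  rw [mul_smul, uni_smul, uni_smul, uni_smul, map_add, hNN', add_zero, LinearMap.add_apply, add_assoc,
    add_comm (N' v) (N v)]

/-- action of an element as a linear map -/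
def act (s : SpecialLinearGroup ι F) : (ι → F) →ₗ[F] (ι → F) where
  toFun v := s • v
  map_add' v w := smul_add s v w
  map_smul' c v := slsmul_smul s c v

theorem act_apply (s : SpecialLinearGroup ι F) (v : ι → F) : act s v = s • v := rfl

theorem conj_uni (s : SpecialLinearGroup ι F) (N : (ι → F) →ₗ[F] (ι → F)) (h : ∀ v, N (N v) = 0)
    (h' : ∀ v, ((act s).comp (N.comp (act s⁻¹))) (((act s).comp (N.comp (act s⁻¹))) v) = 0) :
    s * uni N h * s⁻¹ = uni ((act s).comp (N.comp (act s⁻¹))) h' := by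
  apply smul_ext
  intro v
  rw [mul_smul, mul_smul, uni_smul, uni_smul, smul_add, ← mul_smul, mul_inv_cancel, one_smul]
  rfl

theorem conj_sq_zero (s : SpecialLinearGroup ι F) (N : (ι → F) →ₗ[F] (ι → F)) (h : ∀ v, N (N v) = 0) (v : ι → F) :
    ((act s).comp (N.comp (act s⁻¹))) (((act s).comp (N.comp (act s⁻¹))) v) = 0 := by
  simp only [LinearMap.comp_apply, act_apply]
  rw [← mul_smul s⁻¹ s, inv_mul_cancel, one_smul, h, smul_zero]

/-! ### transvections -/

/-- the rank one map `u ↦ φ u • v` -/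
def rk (φ : Module.Dual F (ι → F)) (v : ι → F) : (ι → F) →ₗ[F] (ι → F) := φ.smulRight v

theorem rk_apply (φ : Module.Dual F (ι → F)) (v u : ι → F) : rk φ v u = φ u • v := rfl

theorem rk_sq {φ : Module.Dual F (ι → F)} {v : ι → F} (h : φ v = 0) (u : ι → F) : rk φ v (rk φ v u) = 0 := by
  rw [rk_apply, rk_apply, map_smul, h, smul_zero, zero_smul]

/-- the transvection `u ↦ u + φ u • v` -/
noncomputable def tv (φ : Module.Dual F (ι → F)) (v : ι → F) (h : φ v = 0) : SpecialLinearGroup ι F :=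
  uni (rk φ v) (rk_sq h)

theorem tv_smul (φ : Module.Dual F (ι → F)) (v : ι → F) (h : φ v = 0) (u : ι → F) :
    tv φ v h • u = u + φ u • v := uni_smul _ _ _

theorem tv_mul_self (φ : Module.Dual F (ι → F)) (v : ι → F) (h : φ v = 0) : tv φ v h * tv φ v h = 1 :=
  uni_mul_self _ _

theorem tv_inv (φ : Module.Dual F (ι → F)) (v : ι → F) (h : φ v = 0) : (tv φ v h)⁻¹ = tv φ v h :=
  inv_eq_of_mul_eq_one_left (tv_mul_self φ v h)

theorem tv_mul (φ ψ : Module.Dual F (ι → F)) (v : ι → F) (h : φ v = 0) (h' : ψ v = 0)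
    (h2 : (φ + ψ) v = 0) : tv φ v h * tv ψ v h' = tv (φ + ψ) v h2 := by
  apply smul_ext
  intro u
  rw [mul_smul, tv_smul, tv_smul, tv_smul, map_add, map_smul, h, smul_zero, add_zero, LinearMap.add_apply,
    add_smul]
  abel

theorem tv_zero (v : ι → F) (h : (0 : Module.Dual F (ι → F)) v = 0) : tv 0 v h = 1 := by
  apply smul_ext
  intro u
  rw [tv_smul, one_smul]
  simp

theorem conj_tv (s : SpecialLinearGroup ι F) (φ : Module.Dual F (ι → F)) (v : ι → F) (h : φ v = 0)
    (h' : (φ.comp (act s⁻¹)) (s • v) = 0) : s * tv φ v h * s⁻¹ = tv (φ.comp (act s⁻¹)) (s • v) h' := by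
  apply smul_ext
  intro u
  rw [mul_smul, mul_smul, tv_smul, tv_smul, smul_add, ← mul_smul, mul_inv_cancel, one_smul, slsmul_smul]
  rfl

theorem dual_comp_act (s : SpecialLinearGroup ι F) (φ : Module.Dual F (ι → F)) (v : ι → F) :
    (φ.comp (act s⁻¹)) (s • v) = φ v := by
  rw [LinearMap.comp_apply, act_apply, ← mul_smul, inv_mul_cancel, one_smul]

/-- the group of all transvections with centre `v` -/
noncomputable def T (v : ι → F) : Subgroup (SpecialLinearGroup ι F) where
  carrier := {s | ∃ φ : Module.Dual F (ι → F), φ v = 0 ∧ ∀ u, s • u = u + φ u • v}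
  one_mem' := ⟨0, rfl, fun u => by simp⟩
  mul_mem' := by
    rintro s t ⟨φ, h, hs⟩ ⟨ψ, h', ht⟩
    refine ⟨φ + ψ, by rw [LinearMap.add_apply, h, h', add_zero], fun u => ?_⟩
    rw [mul_smul, ht, hs, map_add, map_smul, h, smul_zero, add_zero, LinearMap.add_apply, add_smul]
    abel
  inv_mem' := by
    rintro s ⟨φ, h, hs⟩
    have h1 : s = tv φ v h := smul_ext fun u => by rw [hs, tv_smul]
    refine ⟨φ, h, fun u => ?_⟩
    rw [h1, tv_inv, tv_smul]

theorem mem_T {v : ι → F} {s : SpecialLinearGroup ι F} :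
    s ∈ T v ↔ ∃ (φ : Module.Dual F (ι → F)) (h : φ v = 0), s = tv φ v h := by
  constructor
  · rintro ⟨φ, h, hs⟩
    exact ⟨φ, h, smul_ext fun u => by rw [hs, tv_smul]⟩
  · rintro ⟨φ, h, rfl⟩
    exact ⟨φ, h, tv_smul φ v h⟩

theorem tv_mem_T (φ : Module.Dual F (ι → F)) (v : ι → F) (h : φ v = 0) : tv φ v h ∈ T v := mem_T.2 ⟨φ, h, rfl⟩

theorem T_smul {v : ι → F} {c : F} (hc : c ≠ 0) : T (c • v) = T v := by
  ext s
  constructor
  · rintro ⟨φ, h, hs⟩
    refine ⟨c • φ, ?_, fun u => ?_⟩
    · rw [map_smul] at h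
      rw [LinearMap.smul_apply]
      exact h
    · rw [hs, LinearMap.smul_apply, smul_smul, smul_eq_mul, mul_comm]
  · rintro ⟨φ, h, hs⟩
    refine ⟨c⁻¹ • φ, ?_, fun u => ?_⟩
    · rw [LinearMap.smul_apply, map_smul, h, smul_zero, smul_zero]
    · rw [hs, LinearMap.smul_apply, smul_smul, smul_eq_mul, mul_comm, ← mul_assoc, mul_inv_cancel₀ hc, one_mul]

theorem conj_mem_T {v : ι → F} {s t : SpecialLinearGroup ι F} (ht : t ∈ T v) : s * t * s⁻¹ ∈ T (s • v) := by
  obtain ⟨φ, h, rfl⟩ := mem_T.1 ht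
  rw [conj_tv s φ v h (by rw [dual_comp_act, h])]
  exact tv_mem_T _ _ _

end Cfsg.Agent.AGraded
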